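import Cfsg.Agent.Mult93.Local
import Cfsg.Agent.KnownSimple.Multiplier.Sylow
import Cfsg.Agent.CharB.AltMultiplierSmall
import Cfsg.Agent.Lib.Schur.Perfect
import Cfsg.Prelude.Def_SporadicB

/-!
The multiplier of a group with an involution centraliser of odd index which is a non-split double
cover of `A8`, and local criteria for primes dividing the order once.
-/

set_option autoImplicit false

namespace Cfsg.Agent.McLMult91

open Subgroup
open scoped commutatorElement

universe u v

variable {G : Type v} [Group G] [Finite G] {Γ : Type u} [Group Γ] [Finite Γ] (σ : Γ →* G)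

theorem not_dvd_of_eq_bot (hσ : Cfsg.IsStemExtension σ) {ℓ : ℕ} (hℓ : ℓ.Prime) (S : Subgroup G)
    (hS : ¬ ℓ ∣ S.index) (h : σ.ker ⊓ ⁅S.comap σ, S.comap σ⁆ = ⊥) : ¬ ℓ ∣ Nat.card σ.ker := by
  haveI := Fact.mk hℓ
  have := Mult93.card_ker_dvd σ hσ ℓ S hS 0 (by
    rw [h, Subgroup.card_bot, zero_add, pow_one]; exact hℓ.one_lt)
  simpa using this

theorem not_dvd_of_not_dvd_card (hσ : Cfsg.IsStemExtension σ) {ℓ : ℕ} (hℓ : ℓ.Prime)
    (hG : ¬ ℓ ∣ Nat.card G) : ¬ ℓ ∣ Nat.card σ.ker := by
  refine not_dvd_of_eq_bot σ hσ hℓ ⊥ (by rwa [Subgroup.index_bot]) ?_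
  refine KnownSimple.inf_commutator_eq_bot_of_comm σ ⊥ fun x hx y _ => ?_
  rw [commutatorElement_eq_one_iff_mul_comm]
  exact (mem_center_iff.1 (hσ.2.1 (show x ∈ σ.ker from by simpa using hx)) y).symm

theorem not_dvd_of_orderOf (hσ : Cfsg.IsStemExtension σ) {ℓ : ℕ} (hℓ : ℓ.Prime) (g : G)
    (hg : g ^ ℓ = 1) (hg1 : g ≠ 1) (hG : ¬ ℓ ^ 2 ∣ Nat.card G) : ¬ ℓ ∣ Nat.card σ.ker := by
  refine not_dvd_of_eq_bot σ hσ hℓ (zpowers g) (fun h => hG ?_) ?_
  · haveI := Fact.mk hℓ
    rw [← (zpowers g).card_mul_index, Nat.card_zpowers, orderOf_eq_prime hg hg1, pow_two]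
    exact Nat.mul_dvd_mul_left _ h
  · exact KnownSimple.inf_commutator_eq_bot_of_comm σ _ fun x hx y hy =>
      KnownSimple.comm_of_cyclic σ hσ.2.1 (zpowers g) hσ.1 hx hy

theorem isPerfect_of_bracket {H : Type u} [Group H] (P : Subgroup H) (h : ⁅P, P⁆ = P) :
    Group.IsPerfect P := by
  refine ⟨Subgroup.map_injective P.subtype_injective ?_⟩
  rw [← MonoidHom.range_eq_map, Subgroup.range_subtype]
  exact (Subgroup.map_subtype_commutator P).trans h

set_option maxHeartbeats 1000000 in
theorem not_two_dvd (hσ : Cfsg.IsStemExtension σ) (C : Subgroup G)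
    (hC : Cfsg.IsNonsplitDoubleCover ↥C ↥(alternatingGroup (Fin 8))) (hodd : ¬ 2 ∣ C.index) :
    ¬ 2 ∣ Nat.card σ.ker := by
  obtain ⟨hZ, ⟨e⟩, hns⟩ := hC
  have : IsSimpleGroup (alternatingGroup (Fin 8)) := alternatingGroup.isSimpleGroup (by simp)
  let f : C →* alternatingGroup (Fin 8) :=
    e.toMonoidHom.comp (QuotientGroup.mk' (center C))
  have hf : Function.Surjective f := e.surjective.comp (QuotientGroup.mk'_surjective _)
  have hfk : f.ker = center C := by
    ext c
    rw [MonoidHom.mem_ker]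
    show e _ = 1 ↔ _
    rw [e.map_eq_one_iff]
    exact QuotientGroup.eq_one_iff c
  have hAp : commutator (alternatingGroup (Fin 8)) = ⊤ := by
    refine ((inferInstance : (commutator (alternatingGroup (Fin 8))).Normal).eq_bot_or_eq_top
      ).resolve_left fun h => ?_
    rw [_root_.commutator_def, Subgroup.commutator_eq_bot_iff_le_centralizer] at h
    have h1 := (h (Subgroup.mem_top (⟨Equiv.swap 0 1 * Equiv.swap 1 2,
      by simp [Equiv.Perm.mem_alternatingGroup]⟩ : alternatingGroup (Fin 8))))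
      ⟨Equiv.swap 1 2 * Equiv.swap 2 3, by simp [Equiv.Perm.mem_alternatingGroup]⟩ (Set.mem_univ _)
    have h2 := congrArg Subtype.val h1
    revert h2
    simp only [Subgroup.coe_mul]
    decide +kernel
  -- the double cover is perfect
  have hCp : commutator C = ⊤ := by
    have hmap : (commutator C).map f = ⊤ := by
      rw [_root_.commutator_def, Subgroup.map_commutator, Subgroup.map_top_of_surjective f hf,
        ← _root_.commutator_def, hAp]
    have hsup : commutator C ⊔ center C = ⊤ := by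
      rw [← hfk, ← Subgroup.comap_map_eq, hmap, Subgroup.comap_top]
    rcases eq_or_ne (center C ⊓ commutator C) ⊥ with h | h
    · exact absurd (Subgroup.isComplement'_of_disjoint_and_mul_eq_univ (disjoint_iff.2 h) (by
        rw [← Subgroup.normal_mul, sup_comm, hsup]; rfl)) (hns (commutator C))
    · have hle : center C ≤ commutator C := by
        have hd := Subgroup.card_dvd_of_le (inf_le_left : center C ⊓ commutator C ≤ center C)
        rw [hZ] at hd
        rcases (Nat.dvd_prime Nat.prime_two).1 hd with h1 | h1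
        · exact absurd (Subgroup.eq_bot_of_card_eq _ h1) h
        · have e1 : center C ⊓ commutator C = center C :=
            Subgroup.eq_of_le_of_card_ge inf_le_left (by rw [h1, hZ])
          exact e1 ▸ inf_le_right
      rw [← hsup, sup_eq_left.2 hle]
  -- the preimage
  let T := C.comap σ
  let P := commutator T
  let g : T →* C := (σ.comp T.subtype).codRestrict C fun x => x.2
  have hg : Function.Surjective g := fun c => by
    obtain ⟨x, hx⟩ := hσ.1 c
    exact ⟨⟨x, show σ x ∈ C from hx ▸ c.2⟩, Subtype.ext hx⟩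
  have hgk : g.ker ≤ center T := fun x hx => mem_center_iff.2 fun y => Subtype.ext
    (mem_center_iff.1 (hσ.2.1 (show σ x.1 = 1 from congrArg Subtype.val hx)) y.1)
  have hgP : P.map g = ⊤ := by
    show (commutator T).map g = ⊤
    rw [_root_.commutator_def, Subgroup.map_commutator, Subgroup.map_top_of_surjective g hg,
      ← _root_.commutator_def, hCp]
  have hPtop : P ⊔ g.ker = ⊤ := by rw [← Subgroup.comap_map_eq, hgP, Subgroup.comap_top]
  -- the commutator subgroup is perfect
  have hPP : ⁅P, P⁆ = P := by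
    refine le_antisymm (Subgroup.commutator_le_self P) ?_
    show commutator T ≤ _
    rw [_root_.commutator_def, Subgroup.commutator_le]
    intro a _ b _
    have hmem : ∀ a : T, a ∈ P ⊔ g.ker := fun a => by rw [hPtop]; exact Subgroup.mem_top a
    obtain ⟨p, hp, z, hz, rfl⟩ := Subgroup.mem_sup_of_normal_right.1 (hmem a)
    obtain ⟨q, hq, w, hw, rfl⟩ := Subgroup.mem_sup_of_normal_right.1 (hmem b)
    rw [Schur.commutatorElement_mul_central (hgk hz) (hgk hw) p q]
    exact Subgroup.commutator_mem_commutator hp hq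
  have hP : Group.IsPerfect P := isPerfect_of_bracket P hPP
  let τ : P →* alternatingGroup (Fin 8) := (f.comp g).comp P.subtype
  have hτs : Function.Surjective τ := fun a => by
    obtain ⟨c, rfl⟩ := hf a
    obtain ⟨x, hx, rfl⟩ := (hgP ▸ Subgroup.mem_top c : c ∈ P.map g)
    exact ⟨⟨x, hx⟩, rfl⟩
  have hτc : τ.ker ≤ center P := by
    intro x hx
    refine Schur.mem_center_of_perfect hP x fun y => ?_
    have hxC : g x.1 ∈ center C := hfk ▸ (show g x.1 ∈ f.ker from hx)
    have : g ⁅x.1, y.1⁆ = 1 := by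
      rw [map_commutatorElement, commutatorElement_eq_one_iff_mul_comm]
      exact (mem_center_iff.1 hxC _).symm
    refine mem_center_iff.2 fun w => Subtype.ext ?_
    exact mem_center_iff.1 (hgk this) w.1
  have hτ : Cfsg.IsStemExtension τ := ⟨hτs, hτc, by rw [hP.1]; exact le_top⟩
  have hτ2 : Nat.card τ.ker ≤ 2 :=
    CharB.AltMult.card_ker_le_two (by norm_num) (by norm_num) (by norm_num) τ hτ
  -- it meets the kernel trivially
  have hbot : σ.ker ⊓ ⁅C.comap σ, C.comap σ⁆ = ⊥ := by
    have hh : ∀ x : P, g x.1 = 1 → x = 1 := by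
      let h' : τ.ker →* center C :=
        ((g.comp P.subtype).comp τ.ker.subtype).codRestrict _ fun x => hfk ▸ x.2
      have hs : Function.Surjective h' := fun c => by
        obtain ⟨x, hx, e'⟩ := (hgP ▸ Subgroup.mem_top c.1 : c.1 ∈ P.map g)
        refine ⟨⟨⟨x, hx⟩, ?_⟩, Subtype.ext e'⟩
        show f (g x) = 1
        rw [e']
        exact (hfk.symm ▸ c.2 : c.1 ∈ f.ker)
      have hb := (Nat.bijective_iff_surjective_and_card _).2
        ⟨hs, le_antisymm (hτ2.trans hZ.ge) (Nat.card_le_card_of_surjective _ hs)⟩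
      intro x hx
      have hxk : x ∈ τ.ker := by
        show f (g x.1) = 1
        rw [hx, map_one]
      have : (⟨x, hxk⟩ : τ.ker) = 1 := hb.1 (by rw [map_one]; exact Subtype.ext hx)
      exact congrArg Subtype.val this
    rw [eq_bot_iff]
    rintro z ⟨hz, hz'⟩
    have hmap : (commutator T).map T.subtype = ⁅T, T⁆ := Subgroup.map_subtype_commutator T
    obtain ⟨p, hp, rfl⟩ := (hmap.symm ▸ hz' : z ∈ (commutator T).map T.subtype)
    have := hh ⟨p, hp⟩ (Subtype.ext hz)
    rw [Subgroup.mem_bot]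
    exact congrArg (fun w : P => (w.1 : Γ)) this
  exact not_dvd_of_eq_bot σ hσ Nat.prime_two C hodd hbot

end Cfsg.Agent.McLMult91
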