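import Cfsg.Agent.McLMult91.Lift

/-!
The `3`-part of a stem extension of a group whose Sylow 3-subgroup is `3^(1+4)` by an element of
order three, and injectivity of the pairing when that part has order at least nine.
-/

set_option autoImplicit false

namespace Cfsg.Agent.McLMult91

open Subgroup
open scoped commutatorElement IsMulCommutative

universe u v

variable {G : Type v} [Group G] [Finite G] (S : Heis G)

/-- An element completing a Sylow subgroup. -/
structure SylowData (S : Heis G) where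
  r : G
  hr : r ^ 3 = 1
  hrt : r * S.t * r⁻¹ = S.t
  hrQ : ∀ i, r * S.x i * r⁻¹ ∈ Q S ∧ r⁻¹ * S.x i * r ∈ Q S
  hrc : ∀ k : Fin 3, r ≠ S.c ^ (k.val : ℤ)
  hG : ¬ 3 ^ 7 ∣ Nat.card G

/-- The Sylow subgroup. -/
def SylowData.P {S : Heis G} (R : SylowData S) : Subgroup G := closure (Set.range S.x ∪ {R.r})

theorem SylowData.not_dvd_index {S : Heis G} (R : SylowData S) : ¬ 3 ∣ R.P.index := by
  haveI : Fact (Nat.Prime 3) := ⟨Nat.prime_three⟩
  have hQP : Q S ≤ R.P := closure_mono Set.subset_union_left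
  have hrP : R.r ∈ R.P := subset_closure (Or.inr rfl)
  have hrnQ : R.r ∉ Q S := fun h => by
    obtain ⟨k, hk⟩ := fixed_of_commute S h (by
      calc S.t * R.r * S.t⁻¹ = (R.r * S.t * R.r⁻¹) * R.r * S.t⁻¹ := by rw [R.hrt]
        _ = R.r := by group)
    exact R.hrc k hk
  have hxn : ∀ a ∈ Q S, R.r * a * R.r⁻¹ ∈ Q S ∧ R.r⁻¹ * a * R.r ∈ Q S := by
    have h1 : ∀ g : G, (∀ i, g * S.x i * g⁻¹ ∈ Q S) → ∀ a ∈ Q S, g * a * g⁻¹ ∈ Q S := by
      intro g hg a ha
      have h : (Q S).map (MulAut.conj g).toMonoidHom ≤ Q S := by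
        refine ((Subgroup.map_le_iff_le_comap).2 ?_)
        show Subgroup.closure _ ≤ _
        rw [Subgroup.closure_le]
        rintro _ ⟨i, rfl⟩
        exact hg i
      exact h ⟨a, ha, rfl⟩
    exact fun a ha => ⟨h1 _ (fun i => (R.hrQ i).1) a ha, by
      simpa using h1 R.r⁻¹ (fun i => by simpa using (R.hrQ i).2) a ha⟩
  haveI : ((Q S).subgroupOf R.P).Normal := by
    rw [Subgroup.normal_subgroupOf_iff hQP]
    intro a b ha hb
    induction hb using closure_induction generalizing a with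
    | mem g hg =>
      rcases hg with ⟨i, rfl⟩ | rfl
      · exact mul_mem (mul_mem (subset_closure ⟨i, rfl⟩) ha) (inv_mem (subset_closure ⟨i, rfl⟩))
      · exact (hxn a ha).1
    | one => simpa using ha
    | mul g h _ _ ihg ihh =>
      rw [show g * h * a * (g * h)⁻¹ = g * (h * a * h⁻¹) * g⁻¹ by group]
      exact ihg _ (ihh _ ha)
    | inv g hg ih =>
      have hf : Function.Surjective (fun q : Q S => (⟨g * q.1 * g⁻¹, ih _ q.2⟩ : Q S)) :=
        Finite.surjective_of_injective fun p q h => Subtype.ext (by simpa using congrArg Subtype.val h)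
      obtain ⟨q, hq⟩ := hf ⟨a, ha⟩
      have e : g * q.1 * g⁻¹ = a := congrArg Subtype.val hq
      rw [inv_inv, ← e, show g⁻¹ * (g * q.1 * g⁻¹) * g = q.1 by group]
      exact q.2
  have hord : orderOf (QuotientGroup.mk' ((Q S).subgroupOf R.P) ⟨R.r, hrP⟩) = 3 := by
    refine orderOf_eq_prime ?_ fun h => hrnQ ?_
    · rw [← map_pow, show (⟨R.r, hrP⟩ : R.P) ^ 3 = 1 from Subtype.ext R.hr, map_one]
    · exact (QuotientGroup.eq_one_iff (⟨R.r, hrP⟩ : R.P)).1 h
  have hdvd : 729 ∣ Nat.card R.P := by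
    rw [← ((Q S).subgroupOf R.P).card_mul_index,
      Nat.card_congr (Subgroup.subgroupOfEquivOfLe hQP).toEquiv, card_Q,
      show 729 = 243 * 3 from rfl]
    refine Nat.mul_dvd_mul_left _ ?_
    rw [← hord, Subgroup.index_eq_card]
    exact orderOf_dvd_natCard _
  intro h
  refine R.hG ?_
  rw [← R.P.card_mul_index, show 3 ^ 7 = 729 * 3 from rfl]
  exact Nat.mul_dvd_mul hdvd h

variable {S} {Γ : Type u} [Group Γ] [Finite Γ] {σ : Γ →* G}

/-- If the pairing group has at most `3 * 3^e` elements, the kernel has at most `3^e` in the `3`-part. -/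
theorem SylowData.card_bound (R : SylowData S) (hσ : Cfsg.IsStemExtension σ) (L : Lift σ S)
    {e : ℕ} (hD : Nat.card L.D < 3 ^ (e + 2)) : ¬ 3 ^ (e + 1) ∣ Nat.card σ.ker := by
  haveI : Fact (Nat.Prime 3) := ⟨Nat.prime_three⟩
  refine Mult93.card_ker_dvd σ hσ 3 R.P R.not_dvd_index e ?_
  have h1 : Nat.card (σ.ker ⊓ ⁅R.P.comap σ, R.P.comap σ⁆ : Subgroup Γ) ≤
      Nat.card (σ.ker ⊓ L.M : Subgroup Γ) :=
    Subgroup.card_le_of_le (inf_le_inf_left _ (L.commutator_le hσ.2.1 hσ.1 R.hrt R.hrQ))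
  have h2 := L.card_ker_le hσ.2.1
  have h3 : 3 ^ (e + 2) = 3 ^ (e + 1) * 3 := pow_succ 3 (e + 1)
  omega

/-- With a kernel of order divisible by nine, three coordinates are independent. -/
theorem SylowData.phi_ne_one (R : SylowData S) (hσ : Cfsg.IsStemExtension σ) (L : Lift σ S)
    (h9 : 9 ∣ Nat.card σ.ker) (b : Fin 3 → Fin 6 → ℤ)
    (hb : Function.Surjective fun μ : Fin 3 → Fin 3 => L.phi (∑ l, ((μ l).val : ℤ) • b l))
    (μ : Fin 3 → Fin 3) (hμ : μ ≠ 0) : L.phi (∑ l, ((μ l).val : ℤ) • b l) ≠ 1 := by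
  have hD : 3 ^ 3 ≤ Nat.card L.D := by
    by_contra h
    exact R.card_bound hσ L (e := 1) (not_le.1 h) h9
  have hbij := (Nat.bijective_iff_surjective_and_card _).2 ⟨hb, le_antisymm (by
    simpa using hD) (Nat.card_le_card_of_surjective _ hb)⟩
  intro h
  refine hμ (hbij.1 ?_)
  show L.phi _ = L.phi _
  rw [h]
  simp [L.phi_zero hσ.2.1]

/-- Lifts of elements of the extraspecial group, and their commutators. -/
theorem Lift.comm_general (L : Lift σ S) (hc : σ.ker ≤ center Γ) (e f : Fin 4 → ℤ) (k l : ℤ) :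
    σ (pw4 L.X e * (L.C6 0 : Γ) ^ k) = pw4 S.x e * S.c ^ k ∧
      ⁅pw4 L.X e * (L.C6 0 : Γ) ^ k, pw4 L.X f * (L.C6 0 : Γ) ^ l⁆ = (L.phi (wedge e f) : Γ) := by
  have hC : σ (L.C6 0 : Γ) = S.c := by
    show σ ⁅L.X 0, L.X 1⁆ = _
    rw [map_commutatorElement, L.hσX, L.hσX, S.hcomm, show form 0 1 = 1 from rfl, pow_one]
  refine ⟨?_, ?_⟩
  · rw [map_mul, map_zpow, hC]
    congr 1
    simp [pw4, L.hσX]
  · rw [← L.comm_pw4 hc]
    have hd : ∀ n : ℤ, (L.C6 0 : Γ) ^ n ∈ L.D := fun n => zpow_mem (L.C6 0).2 n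
    have he := L.pw4_mem e
    have hf := L.pw4_mem f
    have h1 : Commute (pw4 L.X e) ((L.C6 0 : Γ) ^ l) := L.commute_D hc (hd l) he
    have h2 : Commute (pw4 L.X f) ((L.C6 0 : Γ) ^ k) := L.commute_D hc (hd k) hf
    have h3 : Commute ((L.C6 0 : Γ) ^ k) ((L.C6 0 : Γ) ^ l) := Commute.zpow_zpow_self _ _ _
    set a := pw4 L.X e
    set a' := (L.C6 0 : Γ) ^ k
    set b := pw4 L.X f
    set b' := (L.C6 0 : Γ) ^ l
    simp only [commutatorElement_def]
    calc a * a' * (b * b') * (a * a')⁻¹ * (b * b')⁻¹ = a * (a' * b) * b' * a'⁻¹ * a⁻¹ * b'⁻¹ * b⁻¹ := by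
          group
      _ = a * b * (a' * b') * a'⁻¹ * a⁻¹ * b'⁻¹ * b⁻¹ := by rw [h2.symm.eq]; group
      _ = a * b * (b' * a⁻¹) * b'⁻¹ * b⁻¹ := by rw [h3.eq]; group
      _ = a * b * a⁻¹ * b⁻¹ := by rw [← h1.inv_left.eq]; group

end Cfsg.Agent.McLMult91
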