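import Cfsg.Agent.McLMult91.Elements
import Cfsg.Agent.McLMult91.Three
import Cfsg.Agent.McLMult91.Small
import Cfsg.Agent.SporStruct.McLInvol
import Cfsg.Agent.Lib.Leech.Simplicity
import Mathlib.Data.Nat.Factorization.Basic

/-!
The Schur multiplier of the McLaughlin group has order at most three.
-/

set_option autoImplicit false

namespace Cfsg.Agent.McLMult91

open Cfsg Cfsg.Agent.Leech Cfsg.Agent.SporStruct Cfsg.Agent.SporStruct.CoMatrix
open Data Check Subgroup
open scoped commutatorElement IsMulCommutative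

universe u v

/-- The exponents of the generators in a listed conjugate. -/
def rowOf (e : List (List ℕ)) (i j : Fin 4) : ℤ := (((e.getD i.val []).getD j.val 0 : ℕ) : ℤ)

/-- The central exponent in a listed conjugate. -/
def kOf (e : List (List ℕ)) (i : Fin 4) : ℤ := (((e.getD i.val []).getD 4 0 : ℕ) : ℤ)

theorem nfv_eq (e : List (List ℕ)) (i : Fin 4) :
    nfv (e.getD i.val []) = pw4 heisG.x (rowOf e i) * heisG.c ^ kOf e i := rfl

/-- The relations from listed conjugates. -/
def relV (e : List (List ℕ)) (n : Fin 6) : Fin 6 → ℤ :=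
  wedge (rowOf e ((![0, 0, 0, 1, 1, 2] : Fin 6 → Fin 4) n))
    (rowOf e ((![1, 2, 3, 2, 3, 3] : Fin 6 → Fin 4) n)) - Pi.single n 1

/-- A list as a vector. -/
def vec {n : ℕ} (l : List ℤ) (i : Fin n) : ℤ := l.getD i.val 0

/-- A list as a matrix. -/
def mat {m n : ℕ} (l : List (List ℤ)) (i : Fin m) (j : Fin n) : ℤ := (l.getD i.val []).getD j.val 0

theorem card_McL' : Nat.card McLG = 898128000 := by
  rw [OuterMcL.card_McL]

theorem conj_cent {g : McLG} {T : List (List ℤ)} (hg : tab g = T) (h : P2 T tC = P2 tC T) :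
    g * heisG.c * g⁻¹ = heisG.c :=
  mul_inv_eq_of_eq_mul (tab_injective (by
    show tab (g * qc) = tab (qc * g)
    rw [tab_mul, tab_mul, hg, tab_qc]; exact h))

theorem mem_Q_nfv (e : List ℕ) : nfv e ∈ Q heisG := by
  refine mul_mem ?_ (zpow_mem (c_mem_Q heisG) _)
  have hx : ∀ i, qx i ∈ Q heisG := fun i => subset_closure ⟨i, rfl⟩
  exact mul_mem (mul_mem (mul_mem (zpow_mem (hx 0) _) (zpow_mem (hx 1) _)) (zpow_mem (hx 2) _))
    (zpow_mem (hx 3) _)

/-- The element of order three. -/
noncomputable def qr : McLG := el tR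

theorem tab_qr : tab qr = tR := tab_el (by simp [allT, all1, all2, all3, all4])

theorem qr_ne (k : Fin 3) : qr ≠ qc ^ (k.val : ℤ) := by
  obtain ⟨-, -, -, h0, h1, h2⟩ := check_sylow
  intro h
  have e := congrArg tab h
  fin_cases k
  · simp at e; rw [tab_qr, tab_one] at e; exact h0 e
  · simp at e; rw [tab_qr, tab_qc] at e; exact h1 e
  · simp only [Nat.cast_ofNat, zpow_ofNat, pow_two] at e
    rw [tab_qr, tab_mul, tab_qc] at e; exact h2 e

/-- A Sylow subgroup of the group. -/
noncomputable def sylG : SylowData heisG where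
  r := qr
  hr := tab_injective (by
    rw [pow_three, tab_mul, tab_mul, tab_one, tab_qr]; exact check_pow.2.2.1)
  hrt := mul_inv_eq_of_eq_mul (tab_injective (by
    show tab (qr * qt) = tab (qt * qr)
    rw [tab_mul, tab_mul, tab_qr, tab_qt]; exact check_sylow.1))
  hrQ i := by
    refine ⟨?_, ?_⟩
    · show qr * qx i * qr⁻¹ ∈ _
      rw [conj_of_tab tab_qr check_sylow.2.1]; exact mem_Q_nfv _
    · show qr⁻¹ * qx i * qr ∈ _
      rw [conj_of_tab' tab_qr check_sylow.2.2.1]; exact mem_Q_nfv _
  hrc := qr_ne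
  hG := by rw [card_McL']; norm_num

theorem cert_G : ∀ k : Fin 6, (Pi.single k 1 : Fin 6 → ℤ) = ∑ l, mat lamG k l • relV eD l +
    ∑ l : Fin 2, mat muG k l • (fun j : Fin 6 => mat (m := 2) bG l j) + 3 • fun j : Fin 6 => mat (m := 6) wG k j := by
  decide +kernel

section

variable {Γ : Type u} [Group Γ] [Finite Γ] {σ : Γ →* McLG}

theorem not_nine_dvd (hσ : Cfsg.IsStemExtension σ) : ¬ 9 ∣ Nat.card σ.ker := by
  obtain ⟨L⟩ := nonempty_lift (S := heisG) hσ.1 hσ.2.1
  have hd : tab (el tD) = tD := tab_el (by simp [allT, all1, all2, all3, all4])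
  have hR : ∀ l, L.phi (relV eD l) = 1 := fun l =>
    L.rel hσ.2.1 hσ.1 (m := 5) (g := el tD)
      (tab_injective (by rw [tab_pow, tab_one, hd]; exact check_rel_D.2.1)) (by norm_num)
      (conj_cent hd check_rel_D.1) (rowOf eD) (kOf eD)
      (fun i => (conj_of_tab hd check_rel_D.2.2 i).trans (nfv_eq eD i)) l
  have hs := L.surjective_of_span hσ.2.1 (relV eD) hR _ (mat lamG) (mat muG)
    (fun k j => mat wG k j) cert_G
  have hD : Nat.card L.D < 3 ^ (1 + 2) := by
    calc Nat.card L.D ≤ Nat.card (Fin 2 → Fin 3) := Nat.card_le_card_of_surjective _ hs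
      _ < _ := by simp
  exact sylG.card_bound hσ L (e := 1) hD

theorem not_five_dvd (hσ : Cfsg.IsStemExtension σ) : ¬ 5 ∣ Nat.card σ.ker := by
  obtain ⟨hu, hv, huv, hw, hwu, hwv, hhw, hhu, hhv⟩ := check_five
  have tu : tab (el tU) = tU := tab_el (by simp [allT, all1, all2, all3, all4])
  have tv : tab (el tV) = tV := tab_el (by simp [allT, all1, all2, all3, all4])
  have tw : tab (el tW) = tW := tab_el (by simp [allT, all1, all2, all3, all4])
  have th : tab (el tH) = tH := tab_el (by simp [allT, all1, all2, all3, all4])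
  have he : ⁅el tU, el tV⁆ = el tW := by
    have e : el tU * el tV = el tW * (el tV * el tU) := tab_injective (by
      simp only [tab_mul, tu, tv, tw]; exact huv)
    rw [commutatorElement_def, e]; group
  obtain ⟨S, hS, hbot⟩ := PresMult70.criterion_extraspecial σ hσ.1 hσ.2.1 (p := 5) (a := 4) (b := 4)
    Nat.prime_five (u := el tU) (v := el tV) (h := el tH)
    (tab_injective (by rw [tab_pow, tab_one, tu]; exact hu))
    (tab_injective (by rw [tab_pow, tab_one, tv]; exact hv))
    (fun h => hw (by rw [← tw, ← he, h, tab_one]))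
    (tab_injective (by rw [he]; simp only [tab_mul, tw, tu]; exact hwu))
    (tab_injective (by rw [he]; simp only [tab_mul, tw, tv]; exact hwv))
    (mul_inv_eq_of_eq_mul (tab_injective (by simp only [tab_mul, tab_pow, th, tu]; exact hhu)))
    (mul_inv_eq_of_eq_mul (tab_injective (by simp only [tab_mul, tab_pow, th, tv]; exact hhv)))
    (tab_injective (by rw [he]; simp only [tab_mul, tw, th]; exact hhw))
    (by decide) (by decide) (by rw [card_McL']; norm_num)
  exact not_dvd_of_eq_bot σ hσ Nat.prime_five S hS hbot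

theorem not_two (hσ : Cfsg.IsStemExtension σ) : ¬ 2 ∣ Nat.card σ.ker := by
  obtain ⟨t, -, hC⟩ := McLInvol.main
  refine not_two_dvd σ hσ _ hC fun h => ?_
  obtain ⟨hZ, ⟨e⟩, -⟩ := hC
  have hA : Nat.card (alternatingGroup (Fin 8)) = 20160 := by
    rw [nat_card_alternatingGroup, Nat.card_fin]
    decide
  set C := Subgroup.centralizer ({t} : Set McLG)
  have hCc : Nat.card C = 40320 := by
    rw [← (center C).card_mul_index, hZ, Subgroup.index_eq_card, Nat.card_congr e.toEquiv, hA]
  have := C.card_mul_index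
  rw [hCc, card_McL'] at this
  omega

theorem prime_dvd_ker (hσ : Cfsg.IsStemExtension σ) {q : ℕ} (hq : q.Prime)
    (h : q ∣ Nat.card σ.ker) : q = 3 := by
  obtain ⟨h7, h7', h11, h11'⟩ := check_small
  have t7' : tab (el t7) = t7 := tab_el (by simp [allT, all1, all2, all3, all4])
  have t11' : tab (el t11) = t11 := tab_el (by simp [allT, all1, all2, all3, all4])
  by_contra h3
  by_cases hd : q ∣ Nat.card McLG
  · rw [card_McL', show (898128000 : ℕ) = 2 ^ 7 * 3 ^ 6 * 5 ^ 3 * 7 * 11 by norm_num] at hd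
    have hp : ∀ {a n : ℕ}, a.Prime → q ∣ a ^ n → q = a := fun ha hn =>
      (Nat.prime_dvd_prime_iff_eq hq ha).1 (hq.dvd_of_dvd_pow hn)
    rcases (Nat.Prime.dvd_mul hq).1 hd with hd | hd
    · rcases (Nat.Prime.dvd_mul hq).1 hd with hd | hd
      · rcases (Nat.Prime.dvd_mul hq).1 hd with hd | hd
        · rcases (Nat.Prime.dvd_mul hq).1 hd with hd | hd
          · obtain rfl := hp Nat.prime_two hd
            exact not_two hσ h
          · exact h3 (hp Nat.prime_three hd)
        · obtain rfl := hp Nat.prime_five hd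
          exact not_five_dvd hσ h
      · obtain rfl := (Nat.prime_dvd_prime_iff_eq hq (by norm_num)).1 hd
        exact not_dvd_of_orderOf σ hσ (by norm_num) (el t7)
          (tab_injective (by rw [tab_pow, tab_one, t7']; exact h7))
          (fun e => h7' (by rw [← t7', e, tab_one])) (by rw [card_McL']; norm_num) h
    · obtain rfl := (Nat.prime_dvd_prime_iff_eq hq (by norm_num)).1 hd
      exact not_dvd_of_orderOf σ hσ (by norm_num) (el t11)
        (tab_injective (by rw [tab_pow, tab_one, t11']; exact h11))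
        (fun e => h11' (by rw [← t11', e, tab_one])) (by rw [card_McL']; norm_num) h
  · exact not_dvd_of_not_dvd_card σ hσ hq hd h

theorem card_ker_cases (hσ : Cfsg.IsStemExtension σ) :
    Nat.card σ.ker = 1 ∨ Nat.card σ.ker = 3 := by
  have hne : Nat.card σ.ker ≠ 0 := Nat.card_pos.ne'
  have hk := Nat.eq_prime_pow_of_unique_prime_dvd (p := 3) hne
    (fun {q} hq h => prime_dvd_ker hσ hq h)
  have h9 := not_nine_dvd hσ
  rcases Nat.lt_or_ge (Nat.card σ.ker).primeFactorsList.length 2 with h | h
  · rw [hk]; interval_cases (Nat.card σ.ker).primeFactorsList.length <;> simp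
  · exact absurd (hk ▸ pow_dvd_pow 3 h) h9

end

theorem simple_McL : IsSimpleGroup McLG := by
  have hn : sqNorm (std32 : GolayPt → ℤ) = 32 ∧
      sqNorm ((std48 - std32 : leechLattice) : GolayPt → ℤ) = 32 ∧
      dotInt (std32 : GolayPt → ℤ) ((std48 - std32 : leechLattice) : GolayPt → ℤ) = -8 := by
    rw [AddSubgroup.coe_sub, ← dotInt_self, ← dotInt_self, dotInt_sum, dotInt_sum, dotInt_sum]
    simp only [Pi.sub_apply, coe_std48]
    show (∑ i, Spor.vecU i * Spor.vecU i) = _ ∧ (∑ i, (_ - Spor.vecU i) * (_ - Spor.vecU i)) = _ ∧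
      (∑ i, Spor.vecU i * (_ - Spor.vecU i)) = _
    decide +kernel
  have hr : OuterMcL.emb.range =
      MulAction.stabilizer Co0 std32 ⊓ MulAction.stabilizer Co0 (std48 - std32) := by
    ext y
    rw [MonoidHom.mem_range, OuterMcL.range_iff]
    constructor
    · rintro ⟨h1, h2⟩
      exact ⟨h2, by show y • (std48 - std32) = _; rw [smul_sub', h1, h2]⟩
    · rintro ⟨h1, h2⟩
      have h2' : y • (std48 - std32) = std48 - std32 := h2
      have h1' : y • std32 = std32 := h1
      rw [smul_sub', h1', sub_left_inj] at h2'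
      exact ⟨h2', h1'⟩
  have e : McLG ≃* ↥(MulAction.stabilizer Co0 std32 ⊓ MulAction.stabilizer Co0 (std48 - std32)) :=
    (MonoidHom.ofInjective OuterMcL.emb_injective).trans (MulEquiv.subgroupCongr hr)
  haveI := (isMcL_stab hn.1 hn.2.1 hn.2.2).1
  exact e.isSimpleGroup

theorem perfect_McL : Group.IsPerfect McLG := by
  haveI := simple_McL
  refine ⟨((inferInstance : (commutator McLG).Normal).eq_bot_or_eq_top).resolve_left fun h => ?_⟩
  refine heisG.hc1 ?_
  have h1 : ⁅heisG.x 0, heisG.x 1⁆ ∈ commutator McLG :=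
    Subgroup.commutator_mem_commutator (Subgroup.mem_top _) (Subgroup.mem_top _)
  rw [h, Subgroup.mem_bot, heisG.hcomm, show form 0 1 = 1 from rfl, pow_one] at h1
  exact h1

end Cfsg.Agent.McLMult91
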