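import Cfsg.Agent.McLMult91.Tables

/-!
The tables of group 3 define endomorphisms of the lattice.
-/

set_option autoImplicit false
set_option maxRecDepth 100000
set_option Elab.async false

namespace Cfsg.Agent.McLMult91.Check

open Data Cfsg.Agent.SporStruct Cfsg.Agent.SporStruct.CoMatrix

theorem check_map_3_tU : checkMap tU = true := by decide +kernel

theorem check_map_3_tV : checkMap tV = true := by decide +kernel

theorem check_map_3_tW : checkMap tW = true := by decide +kernel

theorem check_map_3_tH : checkMap tH = true := by decide +kernel

theorem check_map_3_t7 : checkMap t7 = true := by decide +kernel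

theorem check_map_3 : all3.all (fun T => checkMap T) = true := by
  simp only [all3, List.all_cons, List.all_nil, check_map_3_tU, check_map_3_tV, check_map_3_tW, check_map_3_tH, check_map_3_t7, Bool.and_self]

end Cfsg.Agent.McLMult91.Check
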