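import Cfsg.Agent.McLMult91.Tables

/-!
The tables of group 4 define endomorphisms of the lattice.
-/

set_option autoImplicit false
set_option maxRecDepth 100000
set_option Elab.async false

namespace Cfsg.Agent.McLMult91.Check

open Data Cfsg.Agent.SporStruct Cfsg.Agent.SporStruct.CoMatrix

theorem check_map_4_t11 : checkMap t11 = true := by decide +kernel

theorem check_map_4_tRep0 : checkMap tRep0 = true := by decide +kernel

theorem check_map_4_tRep1 : checkMap tRep1 = true := by decide +kernel

theorem check_map_4_tRep2 : checkMap tRep2 = true := by decide +kernel

theorem check_map_4_tRep3 : checkMap tRep3 = true := by decide +kernel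

theorem check_map_4_tRep4 : checkMap tRep4 = true := by decide +kernel

theorem check_map_4 : all4.all (fun T => checkMap T) = true := by
  simp only [all4, List.all_cons, List.all_nil, check_map_4_t11, check_map_4_tRep0, check_map_4_tRep1, check_map_4_tRep2, check_map_4_tRep3, check_map_4_tRep4, Bool.and_self]

end Cfsg.Agent.McLMult91.Check
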