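import Cfsg.Agent.McLMult91.Tables

/-!
The tables transposed of group 1 define endomorphisms of the lattice.
-/

set_option autoImplicit false
set_option maxRecDepth 100000
set_option Elab.async false

namespace Cfsg.Agent.McLMult91.Check

open Data Cfsg.Agent.SporStruct Cfsg.Agent.SporStruct.CoMatrix

theorem check_mapT_1_tC : checkMap (transpL tC) = true := by decide +kernel

theorem check_mapT_1_tT : checkMap (transpL tT) = true := by decide +kernel

theorem check_mapT_1_tX0 : checkMap (transpL tX0) = true := by decide +kernel

theorem check_mapT_1_tX1 : checkMap (transpL tX1) = true := by decide +kernel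

theorem check_mapT_1_tX2 : checkMap (transpL tX2) = true := by decide +kernel

theorem check_mapT_1 : all1.all (fun T => checkMap (transpL T)) = true := by
  simp only [all1, List.all_cons, List.all_nil, check_mapT_1_tC, check_mapT_1_tT, check_mapT_1_tX0, check_mapT_1_tX1, check_mapT_1_tX2, Bool.and_self]

end Cfsg.Agent.McLMult91.Check
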