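import Cfsg.Agent.McLMult91.Tables

/-!
The tables transposed of group 3 define endomorphisms of the lattice.
-/

set_option autoImplicit false
set_option maxRecDepth 100000
set_option Elab.async false

namespace Cfsg.Agent.McLMult91.Check

open Data Cfsg.Agent.SporStruct Cfsg.Agent.SporStruct.CoMatrix

theorem check_mapT_3_tU : checkMap (transpL tU) = true := by decide +kernel

theorem check_mapT_3_tV : checkMap (transpL tV) = true := by decide +kernel

theorem check_mapT_3_tW : checkMap (transpL tW) = true := by decide +kernel

theorem check_mapT_3_tH : checkMap (transpL tH) = true := by decide +kernel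

theorem check_mapT_3_t7 : checkMap (transpL t7) = true := by decide +kernel

theorem check_mapT_3 : all3.all (fun T => checkMap (transpL T)) = true := by
  simp only [all3, List.all_cons, List.all_nil, check_mapT_3_tU, check_mapT_3_tV, check_mapT_3_tW, check_mapT_3_tH, check_mapT_3_t7, Bool.and_self]

end Cfsg.Agent.McLMult91.Check
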