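import Cfsg.Agent.McLMult91.Map1
import Cfsg.Agent.McLMult91.MapT1
import Cfsg.Agent.McLMult91.Map2
import Cfsg.Agent.McLMult91.MapT2
import Cfsg.Agent.McLMult91.Map3
import Cfsg.Agent.McLMult91.MapT3
import Cfsg.Agent.McLMult91.Map4
import Cfsg.Agent.McLMult91.MapT4
import Cfsg.Agent.SporStruct.CoPacked
import Cfsg.Agent.SporStruct.OuterTwo

/-!
Checks of the tables for the Schur multiplier of the McLaughlin group.
-/

set_option autoImplicit false
set_option maxRecDepth 100000

namespace Cfsg.Agent.McLMult91.Check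

open Data Cfsg.Agent.SporStruct Cfsg.Agent.SporStruct.CoMatrix Cfsg.Agent.SporStruct.OuterTwo

/-- The element tables. -/
def allT : List (List (List ℤ)) := all1 ++ all2 ++ all3 ++ all4

/-- The tables of the generators of the extraspecial group and its centre. -/
def xT : List (List (List ℤ)) := [tX0, tX1, tX2, tX3, tC]

/-- The word of a normal form. -/
def nfW (e : List ℕ) : List ℕ :=
  List.replicate (e.getD 0 0) 0 ++ List.replicate (e.getD 1 0) 1 ++ List.replicate (e.getD 2 0) 2 ++
    List.replicate (e.getD 3 0) 3 ++ List.replicate (e.getD 4 0) 4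

/-- Products of tables. -/
noncomputable def P2 (A B : List (List ℤ)) : List (List ℤ) := mulP (packT A) B

/-- Conjugates of the generators by an element are the given normal forms. -/
noncomputable def conjB (g : List (List ℤ)) (e : List (List ℕ)) : Bool :=
  (List.range 4).all fun i => P2 g (xT.getD i []) == P2 (evalP xT (nfW (e.getD i []))) g

/-- The same on the other side. -/
noncomputable def conjB' (g : List (List ℤ)) (e : List (List ℕ)) : Bool :=
  (List.range 4).all fun i => P2 (xT.getD i []) g == P2 g (evalP xT (nfW (e.getD i [])))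

/-- The representatives. -/
def repT : List (List (List ℤ)) := [tRep0, tRep1, tRep2, tRep3, tRep4]

theorem check_map : allT.all (fun T => checkMap T) = true := by
  rw [allT, List.all_append, List.all_append, List.all_append, check_map_1, check_map_2,
    check_map_3, check_map_4]; rfl

theorem check_map' : allT.all (fun T => checkMap (transpL T)) = true := by
  rw [allT, List.all_append, List.all_append, List.all_append, check_mapT_1, check_mapT_2,
    check_mapT_3, check_mapT_4]; rfl

theorem check_fix : allT.all (fun T =>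
    (mapP (packT T) stdL == stdL) && (mapP (packT T) (twoL 1) == twoL 1)) = true := by decide +kernel

theorem check_pow : P2 tC (P2 tC tC) = idMat ∧ P2 tT tT = idMat ∧ P2 tR (P2 tR tR) = idMat ∧
    tC ≠ idMat := by decide +kernel

theorem check_heis : (List.range 4).all (fun i =>
    let x := xT.getD i []
    (P2 x (P2 x x) == idMat) && (P2 (P2 tT x) (P2 tT x) == idMat) && (P2 tC x == P2 x tC)) = true ∧
    P2 tT tC = P2 tC tT := by decide +kernel

theorem check_comm : P2 tX0 tX1 = P2 tC (P2 tX1 tX0) ∧ P2 tX2 tX3 = P2 tC (P2 tX3 tX2) ∧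
    P2 tX0 tX2 = P2 tX2 tX0 ∧ P2 tX0 tX3 = P2 tX3 tX0 ∧ P2 tX1 tX2 = P2 tX2 tX1 ∧
    P2 tX1 tX3 = P2 tX3 tX1 := by decide +kernel

theorem check_sylow : P2 tR tT = P2 tT tR ∧ conjB tR eR = true ∧ conjB' tR eRi = true ∧
    tR ≠ idMat ∧ tR ≠ tC ∧ tR ≠ P2 tC tC := by decide +kernel

theorem check_rel_D : P2 tD tC = P2 tC tD ∧ powP (packT tD) 5 = idMat ∧ conjB tD eD = true := by
  decide +kernel

theorem check_rel_A : P2 tA tC = P2 tC tA ∧ powP (packT tA) 4 = idMat ∧ conjB tA eA = true := by
  decide +kernel

theorem check_rel_B : P2 tB tC = P2 tC tB ∧ powP (packT tB) 4 = idMat ∧ conjB tB eB = true := by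
  decide +kernel

theorem check_five : powP (packT tU) 5 = idMat ∧ powP (packT tV) 5 = idMat ∧
    P2 tU tV = P2 tW (P2 tV tU) ∧ tW ≠ idMat ∧ P2 tW tU = P2 tU tW ∧ P2 tW tV = P2 tV tW ∧
    P2 tH tW = P2 tW tH ∧ P2 tH tU = P2 (powP (packT tU) 4) tH ∧
    P2 tH tV = P2 (powP (packT tV) 4) tH := by decide +kernel

theorem check_small : powP (packT t7) 7 = idMat ∧ t7 ≠ idMat ∧ powP (packT t11) 11 = idMat ∧
    t11 ≠ idMat := by decide +kernel

theorem check_pts : ptsL.length = 275 ∧ ptsL.all (fun v => decide (v.length = 24) && inLB v &&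
    (dotL v v == 32) && (dotL stdL v == 24) && (dotL (twoL 1) v == 16)) = true := by decide +kernel

theorem check_nodup : ptsL.Nodup := by decide +kernel

theorem check_fixed : (List.range 275).all (fun i =>
    ((mapP (packT tX0) (ptsL.getD i []) == ptsL.getD i []) &&
      (mapP (packT tX2) (ptsL.getD i []) == ptsL.getD i [])) == decide (i ∈ fixI)) = true := by
  decide +kernel

theorem check_stab : [tC, tT, tX0, tX1, tX2, tX3, tR, tA, tB].all (fun T =>
    mapP (packT T) (ptsL.getD i0 []) == ptsL.getD i0 []) = true := by decide +kernel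

theorem check_reps : (List.range 5).all (fun k =>
    let g := repT.getD k []
    (mapP (packT g) (ptsL.getD i0 []) == ptsL.getD (fixI.getD k 0) []) &&
    (P2 tX0 g == P2 g (evalP xT (nfW (eE.getD k [])))) &&
    (P2 tX2 g == P2 g (evalP xT (nfW (eF.getD k []))))) = true := by decide +kernel

end Cfsg.Agent.McLMult91.Check
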