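import Mathlib.GroupTheory.Sylow
import Mathlib.GroupTheory.NoncommCoprod
import Mathlib.GroupTheory.SemidirectProduct
import Mathlib.GroupTheory.SpecificGroups.Cyclic
import Mathlib.GroupTheory.GroupAction.Quotient
import Mathlib.Algebra.BigOperators.Group.Finset.Basic

/-!
Corestriction of a central extension from a point stabiliser: if two commuting elements `x`, `y`
of prime order generate a group all of whose fixed points are listed and the product of the
commutators of lifts over those points is nontrivial, then so is the commutator of lifts in the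
corestricted extension.
-/

set_option autoImplicit false

namespace Cfsg.Agent.McLMult91

open MulAction Subgroup
open scoped commutatorElement IsMulCommutative

universe u v w

variable {G : Type u} [Group G] {Ω : Type v} [MulAction G Ω] {a₀ : Ω}

theorem card_closure_pair_dvd [Finite G] {x y : G} {p : ℕ} (hxy : Commute x y) (hx : x ^ p = 1)
    (hy : y ^ p = 1) : Nat.card (closure ({x, y} : Set G)) ∣ p ^ 2 := by
  let f : zpowers x × zpowers y →* G :=
    (zpowers x).subtype.noncommCoprod (zpowers y).subtype (by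
      rintro ⟨_, i, rfl⟩ ⟨_, j, rfl⟩
      exact hxy.zpow_zpow i j)
  have hr : closure ({x, y} : Set G) ≤ f.range := by
    rw [closure_le]
    rintro g (rfl | rfl)
    · exact ⟨(⟨g, mem_zpowers g⟩, 1), by simp [f]⟩
    · exact ⟨(1, ⟨g, mem_zpowers g⟩), by simp [f]⟩
  refine (Subgroup.card_dvd_of_le hr).trans ((card_range_dvd f).trans ?_)
  rw [Nat.card_prod, pow_two, Nat.card_zpowers, Nat.card_zpowers]
  exact mul_dvd_mul (orderOf_dvd_of_pow_eq_one hx) (orderOf_dvd_of_pow_eq_one hy)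

section Model

variable (a₀) {E : Type w} [Group E] (π : E →* stabilizer G a₀) (s : Ω → G)

/-- Translation of functions. -/
def shift : G →* MulAut (Ω → E) where
  toFun g :=
    { toFun := fun n ω => n (g⁻¹ • ω)
      invFun := fun n ω => n (g • ω)
      left_inv := fun n => funext fun ω => by simp
      right_inv := fun n => funext fun ω => by simp
      map_mul' := fun _ _ => rfl }
  map_one' := by ext n ω; simp
  map_mul' g h := by ext n ω; simp [mul_smul]

theorem shift_apply (g : G) (n : Ω → E) (ω : Ω) : shift g n ω = n (g⁻¹ • ω) := rfl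

/-- The lifted monomial group. -/
def monom : Subgroup ((Ω → E) ⋊[shift] G) where
  carrier := {w | ∀ ω, (π (w.left ω) : G) = (s ω)⁻¹ * w.right * s (w.right⁻¹ • ω)}
  one_mem' := fun ω => by simp
  mul_mem' := by
    intro v w hv hw ω
    simp only [Set.mem_setOf_eq] at hv hw
    simp only [SemidirectProduct.mul_left, SemidirectProduct.mul_right, Pi.mul_apply, map_mul,
      Subgroup.coe_mul, shift_apply, hv ω, hw, mul_inv_rev, mul_smul]
    group
  inv_mem' := by
    intro v hv ω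
    simp only [Set.mem_setOf_eq] at hv
    simp only [SemidirectProduct.inv_left, SemidirectProduct.inv_right, shift_apply, Pi.inv_apply,
      inv_inv]
    rw [map_inv, Subgroup.coe_inv, hv, inv_smul_smul]
    group

variable [Fintype Ω]

/-- Central functions of product one. -/
def flat : Subgroup (monom a₀ π s) where
  carrier := {w | w.1.right = 1 ∧ ∃ z : Ω → center E,
    (∀ ω, w.1.left ω = z ω) ∧ ∏ ω, z ω = 1}
  one_mem' := ⟨rfl, 1, fun ω => rfl, by simp⟩
  mul_mem' := by
    rintro v w ⟨hv, y, hy, py⟩ ⟨hw, z, hz, pz⟩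
    refine ⟨by simp [hv, hw], y * z, fun ω => ?_, by simp [Finset.prod_mul_distrib, py, pz]⟩
    simp [hv, shift_apply, hy, hz]
  inv_mem' := by
    rintro v ⟨hv, y, hy, py⟩
    refine ⟨by simp [hv], y⁻¹, fun ω => ?_, by simp [py]⟩
    simp [hv, shift_apply, hy]

omit [Fintype Ω] in
theorem conj_left (v w : (Ω → E) ⋊[shift] G) (hw : w.right = 1) (ω : Ω) :
    (v * w * v⁻¹).left ω = v.left ω * w.left (v.right⁻¹ • ω) * (v.left ω)⁻¹ := by
  simp [SemidirectProduct.mul_left, SemidirectProduct.inv_left, shift_apply, hw]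

instance flat_normal : (flat a₀ π s).Normal where
  conj_mem := by
    rintro w ⟨hw, z, hz, pz⟩ v
    refine ⟨by simp [hw], fun ω => z (v.1.right⁻¹ • ω), fun ω => ?_, ?_⟩
    · show (v.1 * w.1 * v.1⁻¹).left ω = _
      rw [conj_left v.1 w.1 hw, hz, mem_center_iff.1 (z _).2, mul_inv_cancel_right]
    · exact (Equiv.prod_comp (toPerm v.1.right⁻¹) z).trans pz

end Model

variable [Fintype Ω] [Finite G]

/-- Nontrivial corestriction. -/
theorem exists_cor [IsPretransitive G Ω] {E : Type w} [Group E] [Finite E]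
    (π : E →* stabilizer G a₀) (hπ : Function.Surjective π) (hc : π.ker ≤ center E)
    {p : ℕ} (hp : p.Prime) {x y : G} (hxy : Commute x y) (hx : x ^ p = 1) (hy : y ^ p = 1)
    (P : Finset Ω) (hP : ∀ ω, x • ω = ω → y • ω = ω → ω ∈ P)
    (hPfix : ∀ ω ∈ P, x • ω = ω ∧ y • ω = ω)
    (rep : Ω → G) (hrep : ∀ ω ∈ P, rep ω • a₀ = ω) (u v : Ω → E)
    (hu : ∀ ω ∈ P, (π (u ω) : G) = (rep ω)⁻¹ * x * rep ω)
    (hv : ∀ ω ∈ P, (π (v ω) : G) = (rep ω)⁻¹ * y * rep ω)
    (z : Ω → center E) (hz : ∀ ω ∈ P, (z ω : E) = ⁅u ω, v ω⁆) (hne : ∏ ω ∈ P, z ω ≠ 1) :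
    ∃ (Γ : Type (max u v w)) (_ : Group Γ) (_ : Finite Γ) (τ : Γ →* G),
      Function.Surjective τ ∧ τ.ker ≤ center Γ ∧
        ∃ X Y : Γ, τ ⁅X, Y⁆ = 1 ∧ ⁅X, Y⁆ ≠ 1 := by
  classical
  set A := closure ({x, y} : Set G) with hA
  let O := orbitRel.Quotient A Ω
  let q : Ω → O := Quotient.mk _
  have hq : ∀ ω, ∃ k : A, k • (q ω).out = ω := fun ω =>
    orbitRel_apply.1 ((orbitRel A Ω).symm (Quotient.mk_out (s := orbitRel A Ω) ω))
  choose k hk using hq
  choose s₀ hs₀ using fun r : O => exists_smul_eq G a₀ r.out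
  let s : Ω → G := fun ω => if ω ∈ P then rep ω else k ω * s₀ (q ω)
  have hs : ∀ ω, s ω • a₀ = ω := fun ω => by
    by_cases h : ω ∈ P
    · simp only [s, if_pos h]; exact hrep ω h
    · simp only [s, if_neg h, mul_smul, hs₀]; exact hk ω
  have hmem : ∀ g : G, ∀ ω, (s ω)⁻¹ * g * s (g⁻¹ • ω) ∈ stabilizer G a₀ := fun g ω => by
    rw [mem_stabilizer_iff, mul_smul, mul_smul, hs, smul_inv_smul, inv_smul_eq_iff, hs]
  choose lf hlf using fun g ω => hπ ⟨_, hmem g ω⟩
  -- a generator for every non-fixed orbit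
  have hqA : ∀ a : A, ∀ ω : Ω, q (a⁻¹ • ω) = q ω := fun a ω =>
    Quotient.sound (orbitRel_apply.2 ⟨a⁻¹, rfl⟩)
  have hPA : ∀ a : A, ∀ ω ∈ P, a • ω = ω := by
    intro a ω hω
    have : A ≤ stabilizer G ω := by
      rw [hA, closure_le]
      rintro g (rfl | rfl)
      · exact (hPfix ω hω).1
      · exact (hPfix ω hω).2
    exact this a.2
  have hPinv : ∀ a : A, ∀ ω, ω ∉ P → a⁻¹ • ω ∉ P := fun a ω h h' => h (by
    rw [← smul_inv_smul a ω]; rwa [hPA a _ h'])
  have hcyc : ∀ r : O, r.out ∉ P → IsCyclic (stabilizer A r.out) := by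
    intro r hr
    have hne' : stabilizer A r.out ≠ ⊤ := fun htop => by
      have hall : ∀ a : A, a • r.out = r.out := fun a =>
        mem_stabilizer_iff.1 (htop ▸ Subgroup.mem_top a)
      exact hr (hP _ (hall ⟨x, subset_closure (Or.inl rfl)⟩) (hall ⟨y, subset_closure (Or.inr rfl)⟩))
    obtain ⟨i, hi, hcard⟩ := (Nat.dvd_prime_pow hp).1 (card_closure_pair_dvd hxy hx hy)
    obtain ⟨j, hj, hj'⟩ := (Nat.dvd_prime_pow hp).1
      ((Subgroup.card_subgroup_dvd_card (stabilizer A r.out)).trans (dvd_of_eq hcard))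
    have hj2 : j < i := by
      refine lt_of_le_of_ne hj fun hji => hne' (Subgroup.eq_top_of_card_eq _ ?_)
      rw [hj', hji, hcard]
    obtain rfl | rfl : j = 0 ∨ j = 1 := by omega
    · haveI : Subsingleton (stabilizer A r.out) := (Nat.card_eq_one_iff_unique.1 (by simpa using hj')).1
      exact isCyclic_of_subsingleton
    · haveI := Fact.mk hp
      exact isCyclic_of_prime_card (by simpa using hj')
  have hβ : ∀ r : O, ∃ b : E, r.out ∉ P → ∀ a : A, a • r.out = r.out →
      ∃ (i : ℤ), (π b : G) ^ i = (s₀ r)⁻¹ * (a : G) * s₀ r := by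
    intro r
    by_cases hr : r.out ∈ P
    · exact ⟨1, fun h => absurd hr h⟩
    obtain ⟨⟨g, hg⟩, hgen⟩ := (hcyc r hr).exists_generator
    obtain ⟨b, hb⟩ := hπ ⟨(s₀ r)⁻¹ * (g : G) * s₀ r, by
      rw [mem_stabilizer_iff, mul_smul, mul_smul, hs₀, inv_smul_eq_iff, hs₀]
      exact mem_stabilizer_iff.1 hg⟩
    refine ⟨b, fun _ a ha => ?_⟩
    obtain ⟨i, hi⟩ := hgen ⟨a, ha⟩
    refine ⟨i, ?_⟩
    have hi' : (g : G) ^ i = (a : G) := by
      simpa using congrArg (fun w : stabilizer A r.out => ((w : A) : G)) hi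
    rw [hb, ← hi']
    show ((s₀ r)⁻¹ * (g : G) * s₀ r) ^ i = _
    simpa [MulAut.conj_apply] using (map_zpow (MulAut.conj (s₀ r)⁻¹) (g : G) i).symm
  choose β hβ using hβ
  have hexp : ∀ a : A, ∀ ω, ∃ i : ℤ, ω ∉ P →
      (π (β (q ω)) : G) ^ i = (s ω)⁻¹ * (a : G) * s (a⁻¹ • ω) := by
    intro a ω
    by_cases h : ω ∈ P
    · exact ⟨0, fun h' => absurd h h'⟩
    have hrP : (q ω).out ∉ P := fun h' => h (by rw [← hk ω, hPA (k ω) _ h']; exact h')
    have hst : ((k ω)⁻¹ * a * k (a⁻¹ • ω)) • (q ω).out = (q ω).out := by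
      rw [mul_smul, mul_smul, ← hqA a ω, hk, smul_inv_smul, hqA, inv_smul_eq_iff, hk]
    obtain ⟨i, hi⟩ := hβ (q ω) hrP _ hst
    refine ⟨i, fun _ => ?_⟩
    rw [hi]
    have ha' : (a : G)⁻¹ • ω ∉ P := hPinv a ω h
    show _ = (s ω)⁻¹ * (a : G) * s ((a : G)⁻¹ • ω)
    simp only [s, if_neg h, if_neg ha']
    rw [show q ((a : G)⁻¹ • ω) = q ω from hqA a ω]
    push_cast
    group
    rfl
  choose ex hex using hexp
  let ax : A := ⟨x, subset_closure (Or.inl rfl)⟩
  let ay : A := ⟨y, subset_closure (Or.inr rfl)⟩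
  let nx : Ω → E := fun ω => if ω ∈ P then u ω else β (q ω) ^ ex ax ω
  let ny : Ω → E := fun ω => if ω ∈ P then v ω else β (q ω) ^ ex ay ω
  have hfix : ∀ g : G, ∀ ω : Ω, g • ω = ω → g⁻¹ • ω = ω := fun g ω h => inv_smul_eq_iff.2 h.symm
  have mk : ∀ (a : A) (n' : Ω → E), (∀ ω ∈ P, (π (n' ω) : G) = (rep ω)⁻¹ * (a : G) * rep ω) →
      (⟨fun ω => if ω ∈ P then n' ω else β (q ω) ^ ex a ω, (a : G)⟩ : (Ω → E) ⋊[shift] G) ∈
        monom a₀ π s := by
    intro a n' hn' ω
    show (π (if ω ∈ P then n' ω else β (q ω) ^ ex a ω) : G) = _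
    by_cases h : ω ∈ P
    · rw [if_pos h, hn' ω h]
      show _ = (s ω)⁻¹ * (a : G) * s ((a : G)⁻¹ • ω)
      rw [hfix _ ω (hPA a ω h)]
      simp only [s, if_pos h]
    · rw [if_neg h, map_zpow, Subgroup.coe_zpow]
      exact hex a ω h
  let X : monom a₀ π s := ⟨_, mk ax u hu⟩
  let Y : monom a₀ π s := ⟨_, mk ay v hv⟩
  have hright : ∀ g : G, ∃ w : monom a₀ π s, w.1.right = g := fun g =>
    ⟨⟨⟨lf g, g⟩, fun ω => congrArg Subtype.val (hlf g ω)⟩, rfl⟩
  haveI : Finite ((Ω → E) ⋊[shift] G) := Finite.of_equiv _ SemidirectProduct.equivProd.symm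
  let τ₀ : monom a₀ π s →* G := SemidirectProduct.rightHom.comp (monom a₀ π s).subtype
  refine ⟨monom a₀ π s ⧸ flat a₀ π s, inferInstance, inferInstance,
    QuotientGroup.lift _ τ₀ fun w hw => hw.1, ?_, ?_, QuotientGroup.mk X, QuotientGroup.mk Y, ?_, ?_⟩
  · intro g
    obtain ⟨w, hw⟩ := hright g
    exact ⟨QuotientGroup.mk w, hw⟩
  · intro c hc'
    obtain ⟨w, rfl⟩ := QuotientGroup.mk_surjective c
    have hw : w.1.right = 1 := hc'
    have hker : ∀ ω, w.1.left ω ∈ center E := fun ω => hc (by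
      refine Subtype.ext ?_
      show (π (w.1.left ω) : G) = 1
      rw [w.2 ω, hw, inv_one, one_smul, mul_one, inv_mul_cancel])
    let c' : Ω → center E := fun ω => ⟨_, hker ω⟩
    refine mem_center_iff.2 fun d => ?_
    obtain ⟨g, rfl⟩ := QuotientGroup.mk_surjective d
    rw [← QuotientGroup.mk_mul, ← QuotientGroup.mk_mul]
    refine (QuotientGroup.eq_iff_div_mem).2 ?_
    refine ⟨?_, fun ω => c' (g.1.right⁻¹ • ω) * (c' ω)⁻¹, fun ω => ?_, ?_⟩
    · show SemidirectProduct.rightHom ((g * w / (w * g) : monom a₀ π s) : (Ω → E) ⋊[shift] G) = 1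
      simp [map_div, hw]
    · have e : (g * w / (w * g) : monom a₀ π s) = g * w * g⁻¹ * w⁻¹ := by
        rw [div_eq_mul_inv]; group
      rw [e]
      show (g.1 * w.1 * g.1⁻¹ * w.1⁻¹).left ω = _
      have h1 : (g.1 * w.1 * g.1⁻¹).right = 1 := by simp [hw]
      rw [SemidirectProduct.mul_left, Pi.mul_apply, conj_left g.1 w.1 hw, shift_apply, h1]
      simp [hw, shift_apply, c', mem_center_iff.1 (hker (g.1.right⁻¹ • ω)) (g.1.left ω)]
    · rw [Finset.prod_mul_distrib, Finset.prod_inv_distrib,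
        show ∏ ω, c' (g.1.right⁻¹ • ω) = ∏ ω, c' ω from Equiv.prod_comp (toPerm g.1.right⁻¹) c',
        mul_inv_cancel]
  · rw [map_commutatorElement]
    exact commutatorElement_eq_one_iff_commute.2 hxy
  · intro h
    rw [← QuotientGroup.mk'_apply, ← QuotientGroup.mk'_apply, ← map_commutatorElement,
      QuotientGroup.mk'_apply, QuotientGroup.eq_one_iff] at h
    obtain ⟨-, c, hc', hprod⟩ := h
    -- the value of the commutator
    have key : ∀ ω, (c ω : E) = nx ω * ny (x⁻¹ • ω) * (ny ω * nx (y⁻¹ • ω))⁻¹ := by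
      intro ω
      have e : X.1 * Y.1 = ⁅X.1, Y.1⁆ * (Y.1 * X.1) := by rw [commutatorElement_def]; group
      have hr : ⁅X.1, Y.1⁆.right = 1 := by
        show SemidirectProduct.rightHom ⁅X.1, Y.1⁆ = 1
        rw [map_commutatorElement]
        exact commutatorElement_eq_one_iff_commute.2 hxy
      have := congrFun (congrArg SemidirectProduct.left e) ω
      simp only [SemidirectProduct.mul_left, Pi.mul_apply, shift_apply, hr, inv_one, one_smul]
        at this
      rw [← hc' ω]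
      show (⁅X.1, Y.1⁆).left ω = _
      exact eq_mul_inv_of_mul_eq this.symm
    have hzero : ∏ ω ∈ Pᶜ, c ω = 1 := by
      rw [← Finset.prod_fiberwise (Pᶜ) q c]
      refine Finset.prod_eq_one fun r _ => ?_
      set S := (Pᶜ).filter fun ω => q ω = r
      have hS : ∀ ω, ω ∈ S ↔ ω ∉ P ∧ q ω = r := fun ω => by simp [S]
      let D : Ω → ℤ := fun ω => ex ax ω + ex ay (x⁻¹ • ω) - ex ax (y⁻¹ • ω) - ex ay ω
      have hD : ∀ ω ∈ S, (c ω : E) = β r ^ D ω := fun ω hω => by
        obtain ⟨h, rfl⟩ := (hS ω).1 hω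
        rw [key]
        simp only [nx, ny, if_neg h]
        have h1 : x⁻¹ • ω ∉ P := hPinv ax ω h
        have h2 : y⁻¹ • ω ∉ P := hPinv ay ω h
        have h3 : q (x⁻¹ • ω) = q ω := hqA ax ω
        have h4 : q (y⁻¹ • ω) = q ω := hqA ay ω
        rw [if_neg h1, if_neg h2, h3, h4]
        simp only [D, ← zpow_add, ← zpow_neg, sub_eq_add_neg]
        congr 1
        ring
      have hsum : ((∏ ω ∈ S, c ω : center E) : E) = β r ^ ∑ ω ∈ S, D ω := by
        have : ∀ T : Finset Ω, T ⊆ S → ((∏ ω ∈ T, c ω : center E) : E) = β r ^ ∑ ω ∈ T, D ω := by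
          intro T
          induction T using Finset.induction_on with
          | empty => simp
          | insert a T ha ih =>
            intro hT
            rw [Finset.prod_insert ha, Finset.sum_insert ha, Subgroup.coe_mul,
              hD a (hT (Finset.mem_insert_self a T)),
              ih ((Finset.subset_insert a T).trans hT), zpow_add]
        exact this S le_rfl
      have hperm : ∀ a : A, ∀ f : Ω → ℤ, ∑ ω ∈ S, f (a⁻¹ • ω) = ∑ ω ∈ S, f ω := by
        intro a f
        refine Finset.sum_nbij' (fun ω => a⁻¹ • ω) (fun ω => a • ω) ?_ ?_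
          (fun ω _ => smul_inv_smul a ω) (fun ω _ => inv_smul_smul a ω) (fun ω _ => rfl)
        · intro ω hω
          obtain ⟨h, e⟩ := (hS ω).1 hω
          exact (hS _).2 ⟨hPinv a ω h, (hqA a ω).trans e⟩
        · intro ω hω
          obtain ⟨h, e⟩ := (hS ω).1 hω
          refine (hS _).2 ⟨by simpa using hPinv a⁻¹ ω h, ?_⟩
          rw [← hqA a (a • ω), inv_smul_smul, e]
      have hD0 : ∑ ω ∈ S, D ω = 0 := by
        simp only [D, Finset.sum_sub_distrib, Finset.sum_add_distrib]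
        rw [show ∑ ω ∈ S, ex ay (x⁻¹ • ω) = ∑ ω ∈ S, ex ay ω from hperm ax (ex ay),
          show ∑ ω ∈ S, ex ax (y⁻¹ • ω) = ∑ ω ∈ S, ex ax ω from hperm ay (ex ax)]
        ring
      refine Subtype.ext ?_
      rw [hsum, hD0, zpow_zero]
      rfl
    refine hne ?_
    rw [← Finset.prod_mul_prod_compl P c, hzero, mul_one] at hprod
    rw [← hprod]
    refine Finset.prod_congr rfl fun ω hω => Subtype.ext ?_
    rw [hz ω hω, key]
    simp only [nx, ny, if_pos hω]
    rw [hfix x ω (hPfix ω hω).1, hfix y ω (hPfix ω hω).2, if_pos hω, if_pos hω,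
      commutatorElement_def]
    group

end Cfsg.Agent.McLMult91
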