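import Cfsg.Agent.McLMult91.Bound
import Cfsg.Agent.McLMult91.Cor
import Cfsg.Agent.U43Mult50.Cover
import Cfsg.Agent.Lib.Schur.Perfect
import Mathlib.FieldTheory.Finite.GaloisField

/-!
A stem extension of the McLaughlin group with kernel of order three, corestricted from the cover of
the point stabiliser.
-/

set_option autoImplicit false

namespace Cfsg.Agent.McLMult91

open Cfsg Cfsg.Agent.Leech Cfsg.Agent.SporStruct Cfsg.Agent.SporStruct.CoMatrix
open Data Check Subgroup MulAction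
open scoped commutatorElement IsMulCommutative

universe u v

/-- The distinguished index. -/
def iz : Fin 275 := ⟨35, by norm_num⟩

theorem iz_val : iz.val = i0 := rfl

/-- The point stabiliser. -/
noncomputable abbrev HG : Subgroup McLG := MulAction.stabilizer McLG (ptP iz)

theorem mem_HG {T : List (List ℤ)} (hT : T ∈ [tC, tT, tX0, tX1, tX2, tX3, tR, tA, tB])
    (hT' : T ∈ allT) : el T ∈ HG := by
  refine mem_stabilizer_iff.2 (smul_ptP _ _ ?_)
  rw [tab_el hT', iz_val]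
  exact beq_iff_eq.1 (List.all_eq_true.1 check_stab _ hT)

theorem qx_mem (i : Fin 4) : qx i ∈ HG := by
  fin_cases i <;> exact mem_HG (by simp) (by simp [allT, all1, all2, all3, all4])

theorem qc_mem : qc ∈ HG := mem_HG (by simp) (by simp [allT, all1, all2, all3, all4])

/-- The extraspecial group inside the stabiliser. -/
noncomputable def heisH : Heis HG where
  x i := ⟨qx i, qx_mem i⟩
  c := ⟨qc, qc_mem⟩
  t := ⟨qt, mem_HG (by simp) (by simp [allT, all1, all2, all3, all4])⟩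
  hx i := Subtype.ext (heisG.hx i)
  hc := Subtype.ext heisG.hc
  hc1 h := heisG.hc1 (congrArg Subtype.val h)
  ht := Subtype.ext heisG.ht
  htc := Subtype.ext heisG.htc
  htx i := Subtype.ext (heisG.htx i)
  hcx i := Subtype.ext (heisG.hcx i)
  hcomm i j := Subtype.ext (heisG.hcomm i j)

theorem coe_nf (e : Fin 4 → ℤ) (k : ℤ) :
    ((pw4 heisH.x e * heisH.c ^ k : HG) : McLG) = pw4 heisG.x e * heisG.c ^ k := by
  simp [pw4, heisH, heisG]

theorem mem_Q_H (e : Fin 4 → ℤ) (k : ℤ) : pw4 heisH.x e * heisH.c ^ k ∈ Q heisH := by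
  refine mul_mem ?_ (zpow_mem (c_mem_Q heisH) _)
  have hx : ∀ i, heisH.x i ∈ Q heisH := fun i => subset_closure ⟨i, rfl⟩
  exact mul_mem (mul_mem (mul_mem (zpow_mem (hx 0) _) (zpow_mem (hx 1) _)) (zpow_mem (hx 2) _))
    (zpow_mem (hx 3) _)

/-- The element of order three in the stabiliser. -/
noncomputable def hr3 : HG := ⟨qr, mem_HG (by simp) (by simp [allT, all1, all2, all3, all4])⟩

theorem card_HG : Nat.card HG * 275 = 898128000 := by
  have h := HG.card_mul_index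
  rwa [MulAction.index_stabilizer_of_transitive, card_pts, card_McL'] at h

/-- A Sylow subgroup of the stabiliser. -/
noncomputable def sylH : SylowData heisH where
  r := hr3
  hr := Subtype.ext sylG.hr
  hrt := Subtype.ext sylG.hrt
  hrQ i := by
    refine ⟨?_, ?_⟩
    · have e : hr3 * heisH.x i * hr3⁻¹ = pw4 heisH.x (rowOf eR i) * heisH.c ^ kOf eR i :=
        Subtype.ext (by rw [coe_nf, ← nfv_eq, ← conj_of_tab tab_qr check_sylow.2.1]; rfl)
      rw [e]; exact mem_Q_H _ _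
    · have e : hr3⁻¹ * heisH.x i * hr3 = pw4 heisH.x (rowOf eRi i) * heisH.c ^ kOf eRi i :=
        Subtype.ext (by rw [coe_nf, ← nfv_eq, ← conj_of_tab' tab_qr check_sylow.2.2.1]; rfl)
      rw [e]; exact mem_Q_H _ _
  hrc k h := qr_ne k (by simpa [hr3, heisH] using congrArg Subtype.val h)
  hG h := by
    obtain ⟨m, hm⟩ := h
    have := card_HG
    rw [hm] at this
    omega

/-- The relations at the stabiliser. -/
def relH : Fin 12 → Fin 6 → ℤ :=
  ![relV eA 0, relV eA 1, relV eA 2, relV eA 3, relV eA 4, relV eA 5,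
    relV eB 0, relV eB 1, relV eB 2, relV eB 3, relV eB 4, relV eB 5]

/-- The basis of the pairing at the stabiliser. -/
def basH (l : Fin 3) (j : Fin 6) : ℤ := mat bH l j

/-- The rows at the fixed points. -/
def ptRow (e : List (List ℕ)) (k : Fin 5) (j : Fin 4) : ℤ := (((e.getD k.val []).getD j.val 0 : ℕ) : ℤ)

/-- The central exponents at the fixed points. -/
def ptK (e : List (List ℕ)) (k : Fin 5) : ℤ := (((e.getD k.val []).getD 4 0 : ℕ) : ℤ)

/-- The coefficients of the sum at the fixed points. -/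
def muZ : Fin 3 → Fin 3 := ![2, 2, 0]

theorem cert_H : ∀ k : Fin 6, (Pi.single k 1 : Fin 6 → ℤ) = ∑ l, mat lamH k l • relH l +
    ∑ l : Fin 3, mat muH k l • basH l + 3 • fun j : Fin 6 => mat (m := 6) wH k j := by
  decide +kernel

theorem cert_sum : wedge (ptRow eE 0) (ptRow eF 0) + wedge (ptRow eE 1) (ptRow eF 1) +
    wedge (ptRow eE 2) (ptRow eF 2) + wedge (ptRow eE 3) (ptRow eF 3) +
    wedge (ptRow eE 4) (ptRow eF 4) = ∑ l, vec lam0 l • relH l +
    ∑ l, ((muZ l).val : ℤ) • basH l + 3 • (vec w0 : Fin 6 → ℤ) := by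
  decide +kernel

/-- The fixed points. -/
def pf (k : Fin 5) : Pts := ptP ⟨fixI.getD k.val 0 % 275, Nat.mod_lt _ (by norm_num)⟩

theorem pf_injective : Function.Injective pf := fun k l h => by
  have h' := Fin.val_eq_of_eq (ptP_injective h)
  clear h
  revert h'
  revert k l
  decide +kernel

theorem fixI_lt : ∀ k : Fin 5, fixI.getD k.val 0 < 275 := by decide +kernel

theorem fix_iff (ω : Pts) (h0 : qx 0 • ω = ω) (h2 : qx 2 • ω = ω) : ∃ k, pf k = ω := by
  obtain ⟨i, rfl⟩ := ptP_bijective.2 ω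
  have a0 := tab_fix_of_smul _ _ h0
  have a2 := tab_fix_of_smul _ _ h2
  rw [tab_qx] at a0 a2
  have h := beq_iff_eq.1 (List.all_eq_true.1 check_fixed i.val (List.mem_range.2 i.2))
  rw [show mapP (packT tX0) (ptsL.getD i.val []) = ptsL.getD i.val [] from a0,
    show mapP (packT tX2) (ptsL.getD i.val []) = ptsL.getD i.val [] from a2, beq_self_eq_true,
    Bool.true_and, eq_comm, decide_eq_true_eq] at h
  obtain ⟨k, hk, e⟩ := List.mem_iff_getElem.1 h
  refine ⟨⟨k, by exact hk⟩, congrArg ptP (Fin.ext ?_)⟩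
  show fixI.getD k 0 % 275 = i.val
  rw [List.getD_eq_getElem _ _ hk, e, Nat.mod_eq_of_lt i.2]

theorem pf_fix (k : Fin 5) : qx 0 • pf k = pf k ∧ qx 2 • pf k = pf k := by
  have hk : fixI.getD k.val 0 < 275 ∧ fixI.getD k.val 0 ∈ fixI := by revert k; decide +kernel
  have h := beq_iff_eq.1 (List.all_eq_true.1 check_fixed _ (List.mem_range.2 hk.1))
  rw [decide_eq_true hk.2, Bool.and_eq_true, beq_iff_eq, beq_iff_eq] at h
  constructor <;> refine smul_ptP _ _ ?_ <;> rw [tab_qx]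
  · show mapP (packT tX0) (ptsL.getD (fixI.getD k.val 0 % 275) []) =
      ptsL.getD (fixI.getD k.val 0 % 275) []
    rw [Nat.mod_eq_of_lt hk.1]; exact h.1
  · show mapP (packT tX2) (ptsL.getD (fixI.getD k.val 0 % 275) []) =
      ptsL.getD (fixI.getD k.val 0 % 275) []
    rw [Nat.mod_eq_of_lt hk.1]; exact h.2

/-- The representatives. -/
noncomputable def rp (k : Fin 5) : McLG := el (repT.getD k.val [])

theorem rp_spec (k : Fin 5) : rp k • ptP iz = pf k ∧
    (rp k)⁻¹ * qx 0 * rp k = pw4 heisG.x (ptRow eE k) * heisG.c ^ ptK eE k ∧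
    (rp k)⁻¹ * qx 2 * rp k = pw4 heisG.x (ptRow eF k) * heisG.c ^ ptK eF k := by
  have hT : tab (rp k) = repT.getD k.val [] :=
    tab_el (by fin_cases k <;> simp [allT, all1, all2, all3, all4, repT])
  have h := List.all_eq_true.1 check_reps k.val (List.mem_range.2 k.2)
  simp only [Bool.and_eq_true, beq_iff_eq] at h
  obtain ⟨⟨h1, h2⟩, h3⟩ := h
  refine ⟨smul_ptP _ _ ?_, ?_, ?_⟩
  · have hk := fixI_lt k
    show mapP (packT (tab (rp k))) _ = ptsL.getD (fixI.getD k.val 0 % 275) []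
    rw [hT, Nat.mod_eq_of_lt hk, iz_val]; exact h1
  all_goals rw [mul_assoc, inv_mul_eq_iff_eq_mul]; refine tab_injective ?_
  · rw [tab_mul, tab_qx, hT]
    show _ = tab (rp k * nfv (eE.getD k.val []))
    rw [tab_mul, tab_nfv, hT]; exact h2
  · rw [tab_mul, tab_qx, hT]
    show _ = tab (rp k * nfv (eF.getD k.val []))
    rw [tab_mul, tab_nfv, hT]; exact h3

theorem exists_stem_H (hiso : ∀ (F : Type) [Field F] [Fintype F], Fintype.card F = 9 →
    Nonempty (HG ≃* Cfsg.PSU 4 F 3)) :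
    ∃ (E : Type) (_ : Group E) (_ : Finite E) (σ : E →* HG),
      Cfsg.IsStemExtension σ ∧ 9 ∣ Nat.card σ.ker := by
  let F := GaloisField 3 2
  letI : Fintype F := Fintype.ofFinite F
  have hF : Fintype.card F = 9 := by
    rw [← Nat.card_eq_fintype_card, GaloisField.card 3 2 (by norm_num)]; norm_num
  obtain ⟨e⟩ := hiso F hF
  obtain ⟨⟨E, hEg, hEf, σ₁, hσ₁, ⟨eK⟩⟩, -⟩ :=
    U43Mult50.hasSchurMultiplier_PSU (F := F) (by rw [hF]; norm_num)
  have hker : (e.symm.toMonoidHom.comp σ₁).ker = σ₁.ker := by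
    ext x
    exact e.symm.map_eq_one_iff
  refine ⟨E, hEg, hEf, e.symm.toMonoidHom.comp σ₁,
    ⟨e.symm.surjective.comp hσ₁.1, hker ▸ hσ₁.2.1, hker ▸ hσ₁.2.2⟩, ?_⟩
  rw [hker, Nat.card_congr eK.toEquiv, Nat.card_eq_of_equiv_fin
    (n := 36) (Fintype.equivFinOfCardEq (by rfl))]
  norm_num

theorem comm_02 : Commute (qx 0) (qx 2) := by
  have := heisG.hcomm 0 2
  rw [show form 0 2 = 0 from rfl, pow_zero] at this
  exact commutatorElement_eq_one_iff_commute.1 this

section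

variable {E : Type u} [Group E] [Finite E] {σ : E →* HG}

theorem rel_H (hσ : Cfsg.IsStemExtension σ) (L : Lift σ heisH) (T : List (List ℤ))
    (eT : List (List ℕ)) (hm : el T ∈ HG) (hT : T ∈ allT) (hc : P2 T tC = P2 tC T)
    (hp : powP (packT T) 4 = idMat) (hb : conjB T eT = true) (n : Fin 6) :
    L.phi (relV eT n) = 1 := by
  have ht := tab_el hT
  refine L.rel hσ.2.1 hσ.1 (m := 4) (g := ⟨el T, hm⟩)
    (Subtype.ext (show el T ^ 4 = 1 from tab_injective (by rw [tab_pow, tab_one, ht]; exact hp)))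
    (by norm_num) (Subtype.ext (conj_cent ht hc)) (rowOf eT) (kOf eT) (fun i => Subtype.ext ?_) n
  rw [coe_nf, ← nfv_eq, ← conj_of_tab ht hb]; rfl

theorem rel_H_all (hσ : Cfsg.IsStemExtension σ) (L : Lift σ heisH) (l : Fin 12) :
    L.phi (relH l) = 1 := by
  have hA := rel_H hσ L tA eA (mem_HG (by simp) (by simp [allT, all1, all2, all3, all4])) (by simp [allT, all1, all2, all3, all4]) check_rel_A.1
    check_rel_A.2.1 check_rel_A.2.2
  have hB := rel_H hσ L tB eB (mem_HG (by simp) (by simp [allT, all1, all2, all3, all4])) (by simp [allT, all1, all2, all3, all4]) check_rel_B.1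
    check_rel_B.2.1 check_rel_B.2.2
  fin_cases l
  exacts [hA 0, hA 1, hA 2, hA 3, hA 4, hA 5, hB 0, hB 1, hB 2, hB 3, hB 4, hB 5]

theorem sum_ne_one (hσ : Cfsg.IsStemExtension σ) (L : Lift σ heisH) (h9 : 9 ∣ Nat.card σ.ker) :
    L.phi (wedge (ptRow eE 0) (ptRow eF 0) + wedge (ptRow eE 1) (ptRow eF 1) +
      wedge (ptRow eE 2) (ptRow eF 2) + wedge (ptRow eE 3) (ptRow eF 3) +
      wedge (ptRow eE 4) (ptRow eF 4)) ≠ 1 := by
  rw [cert_sum]
  intro h1
  have hb := L.surjective_of_span hσ.2.1 relH (rel_H_all hσ L) basH (mat lamH) (mat muH)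
    (fun k j => mat wH k j) cert_H
  refine sylH.phi_ne_one hσ L h9 basH hb muZ (by decide) ?_
  haveI := L.isComm_D hσ.2.1
  have hk : L.phiHom hσ.2.1 (∑ l, vec lam0 l • relH l) = 0 := by
    rw [map_sum]
    refine Finset.sum_eq_zero fun l _ => ?_
    rw [map_zsmul, show L.phiHom hσ.2.1 (relH l) = 0 from
      congrArg Additive.ofMul (rel_H_all hσ L l), smul_zero]
  rw [L.phi_add hσ.2.1, L.phi_add hσ.2.1, L.phi_three hσ.2.1, mul_one,
    show L.phi (∑ l, vec lam0 l • relH l) = 1 from hk, one_mul] at h1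
  exact h1

theorem exists_lifts (hσ : Cfsg.IsStemExtension σ) (h9 : 9 ∣ Nat.card σ.ker) :
    ∃ (lu lv : Fin 5 → E) (zc : Fin 5 → center E),
      (∀ k, (σ (lu k) : McLG) = (rp k)⁻¹ * qx 0 * rp k) ∧
      (∀ k, (σ (lv k) : McLG) = (rp k)⁻¹ * qx 2 * rp k) ∧
      (∀ k, (zc k : E) = ⁅lu k, lv k⁆) ∧ ∏ k, zc k ≠ 1 := by
  obtain ⟨L⟩ := nonempty_lift (S := heisH) hσ.1 hσ.2.1
  let lu : Fin 5 → E := fun k => pw4 L.X (ptRow eE k) * (L.C6 0 : E) ^ ptK eE k
  let lv : Fin 5 → E := fun k => pw4 L.X (ptRow eF k) * (L.C6 0 : E) ^ ptK eF k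
  have hlu : ∀ k, (σ (lu k) : McLG) = (rp k)⁻¹ * qx 0 * rp k := fun k => by
    rw [(rp_spec k).2.1, (L.comm_general hσ.2.1 _ (ptRow eF k) _ 0).1, coe_nf]
  have hlv : ∀ k, (σ (lv k) : McLG) = (rp k)⁻¹ * qx 2 * rp k := fun k => by
    rw [(rp_spec k).2.2, (L.comm_general hσ.2.1 _ (ptRow eE k) _ 0).1, coe_nf]
  have hzc : ∀ k, ⁅lu k, lv k⁆ ∈ center E := fun k => hσ.2.1 (by
    refine Subtype.ext ?_
    rw [map_commutatorElement]
    show ⁅(σ (lu k) : McLG), (σ (lv k) : McLG)⁆ = 1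
    rw [hlu, hlv, commutatorElement_eq_one_iff_commute]
    show (rp k)⁻¹ * qx 0 * rp k * ((rp k)⁻¹ * qx 2 * rp k) = _ * ((rp k)⁻¹ * qx 0 * rp k)
    calc _ = (rp k)⁻¹ * (qx 0 * qx 2) * rp k := by group
      _ = (rp k)⁻¹ * (qx 2 * qx 0) * rp k := by rw [comm_02.eq]
      _ = _ := by group)
  refine ⟨lu, lv, fun k => ⟨⁅lu k, lv k⁆, hzc k⟩, hlu, hlv, fun k => rfl, fun h => ?_⟩
  have h' := congrArg Subtype.val h
  simp only [Fin.prod_univ_five, Subgroup.coe_mul, Subgroup.coe_one, lu, lv,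
    (L.comm_general hσ.2.1 _ _ _ _).2, ← Subgroup.coe_mul] at h'
  refine sum_ne_one hσ L h9 (Subtype.ext ?_)
  simp only [L.phi_add hσ.2.1, Subgroup.coe_mul, Subgroup.coe_one]
  simpa only [Subgroup.coe_mul] using h'

theorem exists_ext (hσ : Cfsg.IsStemExtension σ) (h9 : 9 ∣ Nat.card σ.ker) :
    ∃ (Γ : Type u) (_ : Group Γ) (_ : Finite Γ) (τ : Γ →* McLG),
      Function.Surjective τ ∧ τ.ker ≤ center Γ ∧ ∃ X Y : Γ, τ ⁅X, Y⁆ = 1 ∧ ⁅X, Y⁆ ≠ 1 := by
  classical
  obtain ⟨lu, lv, zc, hlu, hlv, hzc, hne⟩ := exists_lifts hσ h9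
  refine exists_cor (a₀ := ptP iz) σ hσ.1 hσ.2.1
    Nat.prime_three comm_02 (heisG.hx 0) (heisG.hx 2) (Finset.univ.image pf) ?_ ?_
    (Function.extend pf rp 1) ?_ (Function.extend pf lu 1) (Function.extend pf lv 1) ?_ ?_
    (Function.extend pf zc 1) ?_ ?_
  · intro ω h h'
    obtain ⟨k, rfl⟩ := fix_iff ω h h'
    exact Finset.mem_image_of_mem _ (Finset.mem_univ k)
  · intro ω hω
    obtain ⟨k, -, rfl⟩ := Finset.mem_image.1 hω
    exact pf_fix k
  · intro ω hω
    obtain ⟨k, -, rfl⟩ := Finset.mem_image.1 hω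
    rw [pf_injective.extend_apply]; exact (rp_spec k).1
  · intro ω hω
    obtain ⟨k, -, rfl⟩ := Finset.mem_image.1 hω
    rw [pf_injective.extend_apply, pf_injective.extend_apply]; exact hlu k
  · intro ω hω
    obtain ⟨k, -, rfl⟩ := Finset.mem_image.1 hω
    rw [pf_injective.extend_apply, pf_injective.extend_apply]; exact hlv k
  · intro ω hω
    obtain ⟨k, -, rfl⟩ := Finset.mem_image.1 hω
    rw [pf_injective.extend_apply, pf_injective.extend_apply, pf_injective.extend_apply]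
    exact hzc k
  · rw [Finset.prod_image pf_injective.injOn]
    simp only [pf_injective.extend_apply]
    exact hne

end

theorem exists_core {G : Type v} [Group G] (hG : Group.IsPerfect G) {Γ : Type u} [Group Γ]
    [Finite Γ] (τ : Γ →* G) (hτ : Function.Surjective τ) (hτc : τ.ker ≤ center Γ) {X Y : Γ}
    (hXY : τ ⁅X, Y⁆ = 1) (hne : ⁅X, Y⁆ ≠ 1) :
    ∃ (K : Type u) (_ : Group K) (_ : Finite K) (τ' : K →* G),
      Cfsg.IsStemExtension τ' ∧ τ'.ker ≠ ⊥ := by
  set K := commutator Γ with hK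
  have hKmap : K.map τ = ⊤ := by
    rw [hK, _root_.commutator_def, Subgroup.map_commutator, Subgroup.map_top_of_surjective τ hτ,
      ← _root_.commutator_def]
    exact hG.1
  have hKtop : K ⊔ τ.ker = ⊤ := by rw [← Subgroup.comap_map_eq, hKmap, Subgroup.comap_top]
  have hKK : ⁅K, K⁆ = K := by
    refine le_antisymm (Subgroup.commutator_le_self K) ?_
    show commutator Γ ≤ _
    rw [_root_.commutator_def, Subgroup.commutator_le]
    intro a _ b _
    have hmem : ∀ a : Γ, a ∈ K ⊔ τ.ker := fun a => by rw [hKtop]; exact Subgroup.mem_top a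
    obtain ⟨p, hp, z, hz, rfl⟩ := Subgroup.mem_sup_of_normal_right.1 (hmem a)
    obtain ⟨q, hq, w, hw, rfl⟩ := Subgroup.mem_sup_of_normal_right.1 (hmem b)
    rw [Schur.commutatorElement_mul_central (hτc hz) (hτc hw) p q]
    exact Subgroup.commutator_mem_commutator hp hq
  have hP : Group.IsPerfect K := isPerfect_of_bracket K hKK
  refine ⟨K, inferInstance, inferInstance, τ.comp K.subtype, ⟨fun g => ?_, fun x hx => ?_, ?_⟩, ?_⟩
  · obtain ⟨x, hx, rfl⟩ := (hKmap ▸ Subgroup.mem_top g : g ∈ K.map τ)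
    exact ⟨⟨x, hx⟩, rfl⟩
  · exact mem_center_iff.2 fun y => Subtype.ext (mem_center_iff.1 (hτc hx) y.1)
  · rw [hP.1]; exact le_top
  · intro h
    have hm : ⁅X, Y⁆ ∈ K :=
      Subgroup.commutator_mem_commutator (Subgroup.mem_top X) (Subgroup.mem_top Y)
    have h1 : (⟨⁅X, Y⁆, hm⟩ : K) ∈ (τ.comp K.subtype).ker := hXY
    rw [h, Subgroup.mem_bot] at h1
    exact hne (congrArg Subtype.val h1)

theorem exists_cover (hiso : ∀ (F : Type) [Field F] [Fintype F], Fintype.card F = 9 →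
    Nonempty (HG ≃* Cfsg.PSU 4 F 3)) :
    ∃ (Γ : Type) (_ : Group Γ) (_ : Finite Γ) (τ : Γ →* McLG),
      Cfsg.IsStemExtension τ ∧ τ.ker ≠ ⊥ := by
  obtain ⟨E, _, _, σ, hσ, h9⟩ := exists_stem_H hiso
  obtain ⟨Γ, _, _, τ, hτ, hτc, X, Y, hXY, hne⟩ := exists_ext hσ h9
  exact exists_core perfect_McL τ hτ hτc hXY hne

theorem hasCyclicSchurMultiplier_McL (hiso : ∀ (F : Type) [Field F] [Fintype F],
    Fintype.card F = 9 → Nonempty (HG ≃* Cfsg.PSU 4 F 3)) :
    Cfsg.HasCyclicSchurMultiplier McLG 3 := by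
  obtain ⟨Γ, _, _, τ, hτ, hne⟩ := exists_cover hiso
  have h3 : Nat.card τ.ker = 3 := (card_ker_cases hτ).resolve_left fun h =>
    hne (Subgroup.eq_bot_of_card_eq _ h)
  haveI : Fact (Nat.Prime 3) := ⟨Nat.prime_three⟩
  refine Schur.hasSchurMultiplier_of_card_le τ hτ (mulEquivOfPrimeCardEq h3 (by simp))
    fun Δ _ _ σ hσ => ?_
  have h0 : Nat.card (Multiplicative (ZMod 3)) = 3 := by simp
  rcases card_ker_cases hσ with h | h <;> omega

end Cfsg.Agent.McLMult91
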