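import Cfsg.Agent.Mult93.Local
import Cfsg.Agent.PresMult70.Sylow
import Mathlib.Data.ZMod.Basic

/-!
Central extensions over a subgroup `3^(1+4)` with an involution inverting its four generators:
the commutators of canonical lifts and the relations forced by normalising elements.
-/

set_option autoImplicit false

namespace Cfsg.Agent.McLMult91

open Subgroup
open scoped commutatorElement IsMulCommutative Pointwise

universe u v

/-- The symplectic form. -/
def form (i j : Fin 4) : ℕ :=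
  if (i = 0 ∧ j = 1) ∨ (i = 2 ∧ j = 3) then 1 else
  if (i = 1 ∧ j = 0) ∨ (i = 3 ∧ j = 2) then 2 else 0

/-- An extraspecial group of order 243 with an inverting involution. -/
structure Heis (G : Type v) [Group G] where
  x : Fin 4 → G
  c : G
  t : G
  hx : ∀ i, x i ^ 3 = 1
  hc : c ^ 3 = 1
  hc1 : c ≠ 1
  ht : t * t = 1
  htc : t * c * t⁻¹ = c
  htx : ∀ i, t * x i * t⁻¹ = (x i)⁻¹
  hcx : ∀ i, c * x i = x i * c
  hcomm : ∀ i j, ⁅x i, x j⁆ = c ^ form i j

/-- Ordered products of powers. -/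
def pw4 {G : Type v} [Group G] (y : Fin 4 → G) (e : Fin 4 → ℤ) : G :=
  y 0 ^ e 0 * y 1 ^ e 1 * y 2 ^ e 2 * y 3 ^ e 3

theorem comm_mul_left {G : Type v} [Group G] {a b y : G} (h : Commute a ⁅b, y⁆)
    (h' : Commute ⁅a, y⁆ ⁅b, y⁆) : ⁅a * b, y⁆ = ⁅a, y⁆ * ⁅b, y⁆ := by
  calc ⁅a * b, y⁆ = a * ⁅b, y⁆ * a⁻¹ * ⁅a, y⁆ := by simp only [commutatorElement_def]; group
    _ = ⁅b, y⁆ * ⁅a, y⁆ := by rw [h.eq, mul_inv_cancel_right]
    _ = _ := h'.eq.symm

theorem card_sup_zpowers_le {G : Type v} [Group G] [Finite G] (K : Subgroup G) (y : G)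
    (hn : ∀ k ∈ K, y * k * y⁻¹ ∈ K) (hy : y ^ 3 = 1) :
    Nat.card (K ⊔ zpowers y : Subgroup G) ≤ Nat.card K * 3 := by
  have hnorm : zpowers y ≤ normalizer (K : Set G) := by
    rw [zpowers_le, Subgroup.mem_normalizer_iff]
    refine fun k => ⟨hn k, fun h => ?_⟩
    have := hn _ (hn _ h)
    convert this using 1
    calc k = y ^ 3 * k * (y ^ 3)⁻¹ := by rw [hy]; simp
      _ = _ := by rw [pow_three]; group
  have hset := Subgroup.coe_mul_of_right_le_normalizer_left K (zpowers y) hnorm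
  calc Nat.card (K ⊔ zpowers y : Subgroup G) = Nat.card ((K : Set G) * (zpowers y : Set G) : Set G) := by
        rw [← hset]; rfl
    _ ≤ Nat.card (K : Set G) * Nat.card (zpowers y : Set G) := Set.natCard_mul_le
    _ ≤ _ := Nat.mul_le_mul_left _ (by
      show Nat.card (zpowers y) ≤ 3
      rw [Nat.card_zpowers]
      exact orderOf_le_of_pow_eq_one (by norm_num) hy)

theorem sup_normalised {G : Type v} [Group G] (K : Subgroup G) (y g : G)
    (hK : ∀ k ∈ K, g * k * g⁻¹ ∈ K) (hy : g * y * g⁻¹ ∈ K ⊔ zpowers y) :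
    ∀ k ∈ K ⊔ zpowers y, g * k * g⁻¹ ∈ K ⊔ zpowers y := by
  have : (K ⊔ zpowers y).map (MulAut.conj g).toMonoidHom ≤ K ⊔ zpowers y := by
    rw [Subgroup.map_sup, MonoidHom.map_zpowers, sup_le_iff, zpowers_le]
    exact ⟨Subgroup.map_le_iff_le_comap.2 fun k hk => le_sup_left (α := Subgroup G) (hK k hk), hy⟩
  exact fun k hk => this ⟨k, hk, rfl⟩

section Base

variable {G : Type v} [Group G] (S : Heis G)

/-- The extraspecial group. -/
def Q : Subgroup G := closure (Set.range S.x)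

theorem c_mem_Q : S.c ∈ Q S := by
  have h : ⁅S.x 0, S.x 1⁆ ∈ Q S := by
    have h0 : S.x 0 ∈ Q S := subset_closure ⟨0, rfl⟩
    have h1 : S.x 1 ∈ Q S := subset_closure ⟨1, rfl⟩
    rw [commutatorElement_def]
    exact mul_mem (mul_mem (mul_mem h0 h1) (inv_mem h0)) (inv_mem h1)
  rwa [S.hcomm, show form 0 1 = 1 from rfl, pow_one] at h

theorem conj_pow_comm (i j : Fin 4) : S.x i * S.x j * (S.x i)⁻¹ = S.c ^ form i j * S.x j := by
  rw [← S.hcomm, commutatorElement_def]; group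

theorem card_Q_le [Finite G] : Nat.card (Q S) ≤ 243 := by
  let K : ℕ → Subgroup G := fun n => zpowers S.c ⊔ closure {y | ∃ i : Fin 4, i.val < n ∧ S.x i = y}
  have hnorm : ∀ n, ∀ i : Fin 4, ∀ k ∈ K n, S.x i * k * (S.x i)⁻¹ ∈ K n := by
    intro n i
    have hle : (K n).map (MulAut.conj (S.x i)).toMonoidHom ≤ K n := by
      simp only [K]
      rw [Subgroup.map_sup, MonoidHom.map_zpowers, MonoidHom.map_closure, sup_le_iff, zpowers_le,
        closure_le]
      refine ⟨Subgroup.mem_sup_left ?_, ?_⟩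
      · show S.x i * S.c * (S.x i)⁻¹ ∈ zpowers S.c
        rw [← S.hcx i, mul_inv_cancel_right]; exact mem_zpowers _
      · rintro _ ⟨_, ⟨j, hj, rfl⟩, rfl⟩
        show S.x i * S.x j * (S.x i)⁻¹ ∈ _
        rw [conj_pow_comm]
        exact mul_mem (Subgroup.mem_sup_left (pow_mem (mem_zpowers _) _))
          (Subgroup.mem_sup_right (subset_closure ⟨j, hj, rfl⟩))
    exact fun k hk => hle ⟨k, hk, rfl⟩
  have hcard : ∀ n ≤ 4, Nat.card (K n) ≤ 3 ^ (n + 1) := by
    intro n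
    induction n with
    | zero =>
      intro _
      have : K 0 = zpowers S.c := by simp [K]
      rw [this, Nat.card_zpowers]
      exact orderOf_le_of_pow_eq_one (by norm_num) S.hc
    | succ n ih =>
      intro hn
      have hle : K (n + 1) ≤ K n ⊔ zpowers (S.x ⟨n, by omega⟩) := by
        refine sup_le (le_sup_left.trans le_sup_left) ((closure_le _).2 ?_)
        rintro _ ⟨j, hj, rfl⟩
        rcases Nat.lt_succ_iff_lt_or_eq.1 hj with h | h
        · exact Subgroup.mem_sup_left (Subgroup.mem_sup_right (subset_closure ⟨j, h, rfl⟩))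
        · rw [show (⟨n, by omega⟩ : Fin 4) = j from Fin.ext h.symm]
          exact Subgroup.mem_sup_right (mem_zpowers _)
      calc Nat.card (K (n + 1)) ≤ Nat.card (K n ⊔ zpowers (S.x ⟨n, by omega⟩) : Subgroup G) :=
            Subgroup.card_le_of_le hle
        _ ≤ Nat.card (K n) * 3 := card_sup_zpowers_le _ _ (hnorm n _) (S.hx _)
        _ ≤ 3 ^ (n + 1) * 3 := Nat.mul_le_mul_right _ (ih (by omega))
  refine (Subgroup.card_le_of_le (?_ : Q S ≤ K 4)).trans ((hcard 4 le_rfl).trans (by norm_num))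
  rw [Q, closure_le]
  rintro _ ⟨i, rfl⟩
  exact Subgroup.mem_sup_right (subset_closure ⟨i, i.2, rfl⟩)

/-- Normal forms. -/
def nf (e : (Fin 4 → Fin 3) × Fin 3) : G :=
  pw4 S.x (fun i => ((e.1 i).val : ℤ)) * S.c ^ ((e.2.val : ℤ))

theorem conj_pw4 (g : G) (y : Fin 4 → G) (e : Fin 4 → ℤ) :
    g * pw4 y e * g⁻¹ = pw4 (fun i => g * y i * g⁻¹) e := by
  simp only [pw4, conj_zpow]
  group

theorem pow_three_zpow {g : G} (h : g ^ 3 = 1) (n : ℤ) : g ^ (3 * n) = 1 := by
  rw [zpow_mul, zpow_ofNat, h, one_zpow]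

theorem zpow_congr {g : G} (h : g ^ 3 = 1) {m n : ℤ} (hmn : (3 : ℤ) ∣ m - n) : g ^ m = g ^ n := by
  obtain ⟨k, hk⟩ := hmn
  rw [show m = 3 * k + n by omega, zpow_add, pow_three_zpow h, one_mul]

/-- Conjugating a product by a generator. -/
theorem conj_x_pw4 (j : Fin 4) (e : Fin 4 → ℤ) :
    S.x j * pw4 S.x e * (S.x j)⁻¹ = pw4 S.x e * S.c ^ (∑ i, (form j i : ℤ) * e i) := by
  have hcx : ∀ (i : Fin 4) (m n : ℤ), Commute (S.c ^ m) (S.x i ^ n) := fun i m n =>
    (show Commute S.c (S.x i) from S.hcx i).zpow_zpow m n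
  have h : ∀ i, (S.x j * S.x i * (S.x j)⁻¹) ^ e i = S.x i ^ e i * S.c ^ ((form j i : ℤ) * e i) :=
    fun i => by
      rw [conj_pow_comm, Commute.mul_zpow ((show Commute S.c (S.x i) from S.hcx i).pow_left _),
        ← zpow_natCast, ← zpow_mul, (hcx i _ _).eq]
  rw [conj_pw4]
  simp only [pw4, h, Fin.sum_univ_four]
  rw [zpow_add, zpow_add, zpow_add]
  set a := S.x 0 ^ e 0
  set b := S.x 1 ^ e 1
  set d := S.x 2 ^ e 2
  set f := S.x 3 ^ e 3
  set p := S.c ^ ((form j 0 : ℤ) * e 0)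
  set q := S.c ^ ((form j 1 : ℤ) * e 1)
  set r := S.c ^ ((form j 2 : ℤ) * e 2)
  set s := S.c ^ ((form j 3 : ℤ) * e 3)
  have hp : Commute p b ∧ Commute p d ∧ Commute p f := ⟨hcx _ _ _, hcx _ _ _, hcx _ _ _⟩
  have hq : Commute q d ∧ Commute q f := ⟨hcx _ _ _, hcx _ _ _⟩
  have hr : Commute r f := hcx _ _ _
  have hqp : Commute p q ∧ Commute p r ∧ Commute q r :=
    ⟨Commute.zpow_zpow_self _ _ _, Commute.zpow_zpow_self _ _ _, Commute.zpow_zpow_self _ _ _⟩
  calc a * p * (b * q) * (d * r) * (f * s) = a * (p * b) * q * (d * r) * (f * s) := by group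
    _ = a * b * p * (q * d) * r * (f * s) := by rw [hp.1.eq]; group
    _ = a * b * (p * d) * q * r * (f * s) := by rw [hq.1.eq]; group
    _ = a * b * d * p * q * (r * f) * s := by rw [hp.2.1.eq]; group
    _ = a * b * d * p * (q * f) * r * s := by rw [hr.eq]; group
    _ = a * b * d * (p * f) * q * r * s := by rw [hq.2.eq]; group
    _ = a * b * d * f * (p * q * r * s) := by rw [hp.2.2.eq]; group

theorem c_pow_eq {m n : ℤ} (h : S.c ^ m = S.c ^ n) : (3 : ℤ) ∣ m - n := by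
  have ho : orderOf S.c = 3 := orderOf_eq_prime (p := 3) S.hc S.hc1
  have := orderOf_dvd_iff_zpow_eq_one.2 (show S.c ^ (m - n) = 1 by rw [zpow_sub, h, mul_inv_cancel])
  rwa [ho] at this

theorem nf_injective : Function.Injective (nf S) := by
  rintro ⟨e, k⟩ ⟨f, l⟩ h
  simp only [nf] at h
  set E : Fin 4 → ℤ := fun i => ((e i).val : ℤ) with hE
  set F : Fin 4 → ℤ := fun i => ((f i).val : ℤ) with hF
  have hcz : ∀ (j : Fin 4) (n : ℤ), S.x j * S.c ^ n * (S.x j)⁻¹ = S.c ^ n := fun j n => by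
    rw [← ((show Commute S.c (S.x j) from S.hcx j).zpow_left n).eq, mul_inv_cancel_right]
  have hj : ∀ j, (3 : ℤ) ∣ (∑ i, (form j i : ℤ) * E i) - ∑ i, (form j i : ℤ) * F i := by
    intro j
    have h2 := congrArg (fun g => S.x j * g * (S.x j)⁻¹) h
    have e1 : ∀ (a : Fin 4 → ℤ) (n : ℤ), S.x j * (pw4 S.x a * S.c ^ n) * (S.x j)⁻¹ =
        (pw4 S.x a * S.c ^ n) * S.c ^ (∑ i, (form j i : ℤ) * a i) := fun a n => by
      calc S.x j * (pw4 S.x a * S.c ^ n) * (S.x j)⁻¹
          = (S.x j * pw4 S.x a * (S.x j)⁻¹) * (S.x j * S.c ^ n * (S.x j)⁻¹) := by group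
        _ = _ := by
          rw [conj_x_pw4, hcz, mul_assoc, mul_assoc, (Commute.zpow_zpow_self S.c _ n).eq]
    simp only [e1] at h2
    rw [h] at h2
    exact c_pow_eq S (mul_left_cancel h2)
  have h0 := hj 0
  have h1 := hj 1
  have h2 := hj 2
  have h3 := hj 3
  simp only [Fin.sum_univ_four, form] at h0 h1 h2 h3
  simp only [hE, hF] at h0 h1 h2 h3
  have := (e 0).isLt; have := (e 1).isLt; have := (e 2).isLt; have := (e 3).isLt
  have := (f 0).isLt; have := (f 1).isLt; have := (f 2).isLt; have := (f 3).isLt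
  simp at h0 h1 h2 h3
  have hef : e = f := by
    funext i
    apply Fin.ext
    obtain rfl | rfl | rfl | rfl : i = 0 ∨ i = 1 ∨ i = 2 ∨ i = 3 := by omega
    all_goals omega
  subst hef
  have : (3 : ℤ) ∣ (k.val : ℤ) - (l.val : ℤ) := c_pow_eq S (mul_left_cancel h)
  have := k.isLt; have := l.isLt
  exact Prod.ext rfl (Fin.ext (by show k.val = l.val; omega))

theorem nf_mem (e : (Fin 4 → Fin 3) × Fin 3) : nf S e ∈ Q S := by
  have hx : ∀ i, S.x i ∈ Q S := fun i => subset_closure ⟨i, rfl⟩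
  exact mul_mem (mul_mem (mul_mem (mul_mem (zpow_mem (hx 0) _) (zpow_mem (hx 1) _))
    (zpow_mem (hx 2) _)) (zpow_mem (hx 3) _)) (zpow_mem (c_mem_Q S) _)

theorem card_Q [Finite G] : Nat.card (Q S) = 243 := by
  refine le_antisymm (card_Q_le S) ?_
  calc 243 = Nat.card ((Fin 4 → Fin 3) × Fin 3) := by simp
    _ ≤ _ := Nat.card_le_card_of_injective (fun e => (⟨nf S e, nf_mem S e⟩ : Q S))
        fun a b h => nf_injective S (congrArg Subtype.val h)

theorem mem_Q_iff [Finite G] {g : G} (hg : g ∈ Q S) : ∃ e, nf S e = g := by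
  have hbij : Function.Bijective (fun e => (⟨nf S e, nf_mem S e⟩ : Q S)) :=
    (Nat.bijective_iff_injective_and_card _).2
      ⟨fun a b h => nf_injective S (congrArg Subtype.val h), by rw [card_Q]; simp⟩
  obtain ⟨e, he⟩ := hbij.2 ⟨g, hg⟩
  exact ⟨e, congrArg Subtype.val he⟩

/-- The inverting involution fixes only powers of `c` in the extraspecial group. -/
theorem fixed_of_commute [Finite G] {g : G} (hg : g ∈ Q S) (h : S.t * g * S.t⁻¹ = g) :
    ∃ k : Fin 3, g = S.c ^ (k.val : ℤ) := by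
  obtain ⟨⟨e, k⟩, rfl⟩ := mem_Q_iff S hg
  let e' : Fin 4 → Fin 3 := fun i => -e i
  have hneg : ∀ a : Fin 3, (3 : ℤ) ∣ ((-a).val : ℤ) - -(a.val : ℤ) := by decide
  have : nf S (e', k) = nf S (e, k) := by
    conv_rhs => rw [← h]
    simp only [nf]
    rw [show S.t * (pw4 S.x (fun i => ((e i).val : ℤ)) * S.c ^ (k.val : ℤ)) * S.t⁻¹ =
      (S.t * pw4 S.x (fun i => ((e i).val : ℤ)) * S.t⁻¹) * (S.t * S.c ^ (k.val : ℤ) * S.t⁻¹) by group,
      conj_pw4, ← conj_zpow, S.htc]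
    congr 1
    simp only [pw4, S.htx, inv_zpow', e']
    rw [zpow_congr (S.hx 0) (hneg (e 0)), zpow_congr (S.hx 1) (hneg (e 1)),
      zpow_congr (S.hx 2) (hneg (e 2)), zpow_congr (S.hx 3) (hneg (e 3))]
  have he : e = 0 := by
    funext i
    have h1 : -e i = e i := congrFun (congrArg Prod.fst (nf_injective S this)) i
    exact (show ∀ a : Fin 3, -a = a → a = 0 by decide) _ h1
  subst he
  exact ⟨k, by simp [nf, pw4]⟩

end Base

end Cfsg.Agent.McLMult91
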