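import Cfsg.Agent.McLMult91.Check
import Cfsg.Agent.McLMult91.Heis
import Cfsg.Agent.SporStruct.OuterMcL
import Cfsg.Agent.SporStruct.LeechMcLMain
import Cfsg.Agent.Lib.Leech.CodeUnique

/-!
Elements of the McLaughlin group from the tables, and its action on the 275 points.
-/

set_option autoImplicit false

namespace Cfsg.Agent.McLMult91

open Cfsg Cfsg.Agent.Leech Cfsg.Agent.SporStruct Cfsg.Agent.SporStruct.CoMatrix
open Cfsg.Agent.SporStruct.OuterTwo Data Check
open Cfsg.Agent.Golay (pt idx idx_lt pt_idx idx_pt)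
open scoped commutatorElement

/-- The group. -/
abbrev McLG := ↥Spor.McL

local notation "emb" => OuterMcL.emb

/-- The table of an element. -/
noncomputable def tab (g : McLG) : List (List ℤ) := rows (emb g)

theorem tab_injective {g h : McLG} (e : tab g = tab h) : g = h :=
  OuterMcL.emb_injective (rows_injective e)

theorem tab_mul (g h : McLG) : tab (g * h) = P2 (tab g) (tab h) := by
  rw [tab, tab, tab, map_mul, P2, mulP_rows]

theorem tab_one : tab 1 = idMat := by rw [tab, map_one, rows_one]

theorem tab_pow (g : McLG) (n : ℕ) : tab (g ^ n) = powP (packT (tab g)) n := by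
  rw [tab, tab, map_pow, powP_rows]

theorem exists_tab {T : List (List ℤ)} (hT : T ∈ allT) : ∃ g, tab g = T := by
  obtain ⟨y, hy⟩ := exists_elem (List.all_eq_true.1 check_map _ hT)
    (List.all_eq_true.1 check_map' _ hT)
  have hf := List.all_eq_true.1 check_fix _ hT
  simp only [Bool.and_eq_true, beq_iff_eq] at hf
  obtain ⟨h1, h2⟩ := hf
  obtain ⟨g, hg⟩ := (OuterMcL.range_iff y).2
    ⟨Subtype.ext (vecL_inj (by
      rw [← mapP_rows y std48 (by rw [sqNorm_std48]; norm_num), hy, vecL_std48]; exact h1)),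
     Subtype.ext (vecL_inj (by
      rw [← mapP_rows y std32 (by rw [sqNorm_std32]; norm_num), hy, vecL_two.1]; exact h2))⟩
  exact ⟨g, by rw [tab, hg, hy]⟩

open Classical in
/-- The element of a table. -/
noncomputable def el (T : List (List ℤ)) : McLG :=
  if h : ∃ g, tab g = T then h.choose else 1

theorem tab_el {T : List (List ℤ)} (hT : T ∈ allT) : tab (el T) = T := by
  rw [el, dif_pos (exists_tab hT)]
  exact (exists_tab hT).choose_spec

/-- The generators of the extraspecial group. -/
noncomputable def qx : Fin 4 → McLG := ![el tX0, el tX1, el tX2, el tX3]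

/-- Its centre. -/
noncomputable def qc : McLG := el tC

/-- The inverting involution. -/
noncomputable def qt : McLG := el tT

theorem tab_qx (i : Fin 4) : tab (qx i) = xT.getD i.val [] := by
  fin_cases i <;> exact tab_el (by simp [allT, all1, all2, all3, all4])

theorem tab_qc : tab qc = tC := tab_el (by simp [allT, all1, all2, all3, all4])

theorem tab_qt : tab qt = tT := tab_el (by simp [allT, all1, all2, all3, all4])

/-- The value of a normal form. -/
noncomputable def nfv (e : List ℕ) : McLG :=
  pw4 qx (fun i => ((e.getD i.val 0 : ℕ) : ℤ)) * qc ^ ((e.getD 4 0 : ℕ) : ℤ)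

theorem tab_nfv (e : List ℕ) : tab (nfv e) = evalP xT (nfW e) := by
  set L : List McLG := [qx 0, qx 1, qx 2, qx 3, qc]
  have hL : (L.map emb).map rows = xT := by
    have h0 := tab_qx 0
    have h1 := tab_qx 1
    have h2 := tab_qx 2
    have h3 := tab_qx 3
    have h4 := tab_qc
    simp only [tab, xT] at h0 h1 h2 h3 h4
    simp only [L, List.map_cons, List.map_nil, h0, h1, h2, h3, h4]
    rfl
  have hw : word L (nfW e) = nfv e := by
    simp [word, nfW, L, nfv, pw4, mul_assoc]
  rw [tab, ← hw, map_word, ← hL, evalP_word]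

theorem conj_of_tab {g : McLG} {e : List (List ℕ)} {T : List (List ℤ)} (hg : tab g = T)
    (h : conjB T e = true) (i : Fin 4) : g * qx i * g⁻¹ = nfv (e.getD i.val []) := by
  simp only [conjB, List.all_eq_true, List.mem_range, beq_iff_eq] at h
  refine mul_inv_eq_of_eq_mul (tab_injective ?_)
  rw [tab_mul, tab_mul, hg, tab_qx, tab_nfv]
  exact h _ i.2

theorem conj_of_tab' {g : McLG} {e : List (List ℕ)} {T : List (List ℤ)} (hg : tab g = T)
    (h : conjB' T e = true) (i : Fin 4) : g⁻¹ * qx i * g = nfv (e.getD i.val []) := by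
  simp only [conjB', List.all_eq_true, List.mem_range, beq_iff_eq] at h
  rw [mul_assoc, inv_mul_eq_iff_eq_mul]
  refine tab_injective ?_
  rw [tab_mul, tab_mul, hg, tab_qx, tab_nfv]
  exact h _ i.2

/-- The extraspecial group. -/
noncomputable def heisG : Heis McLG where
  x := qx
  c := qc
  t := qt
  hx i := tab_injective (by
    have h := check_heis.1
    simp only [List.all_eq_true, List.mem_range, Bool.and_eq_true, beq_iff_eq] at h
    rw [pow_three, tab_mul, tab_mul, tab_one, tab_qx]
    exact (h _ i.2).1.1)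
  hc := tab_injective (by rw [pow_three, tab_mul, tab_mul, tab_one, tab_qc]; exact check_pow.1)
  hc1 h := check_pow.2.2.2 (by rw [← tab_qc, h, tab_one])
  ht := tab_injective (by rw [tab_mul, tab_one, tab_qt]; exact check_pow.2.1)
  htc := mul_inv_eq_of_eq_mul (tab_injective (by
    rw [tab_mul, tab_mul, tab_qt, tab_qc]; exact check_heis.2))
  htx i := by
    have h := check_heis.1
    simp only [List.all_eq_true, List.mem_range, Bool.and_eq_true, beq_iff_eq] at h
    have h1 : qt * qx i * (qt * qx i) = 1 := tab_injective (by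
      rw [tab_mul, tab_mul, tab_one, tab_qt, tab_qx]; exact (h _ i.2).1.2)
    have h2 : qt⁻¹ = qt := inv_eq_of_mul_eq_one_right (tab_injective (by
      rw [tab_mul, tab_one, tab_qt]; exact check_pow.2.1))
    rw [h2]
    exact eq_inv_of_mul_eq_one_left (by rw [← mul_assoc] at h1; exact h1)
  hcx i := tab_injective (by
    have h := check_heis.1
    simp only [List.all_eq_true, List.mem_range, Bool.and_eq_true, beq_iff_eq] at h
    rw [tab_mul, tab_mul, tab_qx, tab_qc]; exact (h _ i.2).2)
  hcomm := by
    obtain ⟨h01, h23, h02, h03, h12, h13⟩ := check_comm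
    have mk : ∀ a b : Fin 4, P2 (xT.getD a.val []) (xT.getD b.val []) =
        P2 tC (P2 (xT.getD b.val []) (xT.getD a.val [])) → ⁅qx a, qx b⁆ = qc := fun a b h => by
      have e : qx a * qx b = qc * (qx b * qx a) := tab_injective (by
        simp only [tab_mul, tab_qx, tab_qc]; exact h)
      rw [commutatorElement_def, e]; group
    have mk' : ∀ a b : Fin 4, P2 (xT.getD a.val []) (xT.getD b.val []) =
        P2 (xT.getD b.val []) (xT.getD a.val []) → ⁅qx a, qx b⁆ = 1 := fun a b h =>
      commutatorElement_eq_one_iff_commute.2 (show qx a * qx b = qx b * qx a from tab_injective (by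
        simp only [tab_mul, tab_qx]; exact h))
    have g01 := mk 0 1 h01
    have g23 := mk 2 3 h23
    have g02 := mk' 0 2 h02
    have g03 := mk' 0 3 h03
    have g12 := mk' 1 2 h12
    have g13 := mk' 1 3 h13
    have hc2 : qc⁻¹ = qc ^ 2 := inv_eq_of_mul_eq_one_right (tab_injective (by
      rw [pow_two, tab_mul, tab_mul, tab_one, tab_qc]; exact check_pow.1))
    intro i j
    fin_cases i <;> fin_cases j <;> (
      first
      | (simp [form, g01, g23, g02, g03, g12, g13]; done)
      | (rw [← commutatorElement_inv]; simp [form, g01, g23, g02, g03, g12, g13, hc2]; done))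

/-! ### The 275 points -/

/-- The points. -/
def Pts : Type := {x : leechLattice // x ∈ mcConfig std48 std32}

theorem dot_std : dotInt (std48 : GolayPt → ℤ) (std32 : GolayPt → ℤ) = 24 := by
  rw [dotInt_sum]
  simp only [coe_std48, coe_std32]
  decide +kernel

theorem smul_mem_pts (g : McLG) {x : leechLattice} (hx : x ∈ mcConfig std48 std32) :
    emb g • x ∈ mcConfig std48 std32 := by
  obtain ⟨h1, h2⟩ := (OuterMcL.range_iff _).1 ⟨g, rfl⟩
  rw [mem_mcConfig_iff sqNorm_std48] at hx ⊢
  refine ⟨(sqNorm_smul _ x).trans hx.1, ?_, ?_⟩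
  · conv_lhs => rw [← h1]
    rw [dotInt_smul]; exact hx.2.1
  · conv_lhs => rw [← h2]
    rw [dotInt_smul]; exact hx.2.2

noncomputable instance : MulAction McLG Pts where
  smul g x := ⟨emb g • x.1, smul_mem_pts g x.2⟩
  one_smul x := Subtype.ext (show emb 1 • x.1 = x.1 by rw [map_one, one_smul])
  mul_smul g h x := Subtype.ext (show emb (g * h) • x.1 = emb g • emb h • x.1 by
    rw [map_mul, mul_smul])

theorem coe_smul_pts (g : McLG) (x : Pts) : (g • x).1 = emb g • x.1 := rfl

/-- The listed vector. -/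
def ptV (i : Fin 275) : GolayPt → ℤ := vecP (ptsL.getD i.val [])

theorem pts_spec (i : Fin 275) : vecL (ptV i) = ptsL.getD i.val [] ∧ ptV i ∈ leechLattice ∧
    sqNorm (ptV i) = 32 ∧ dotInt (std48 : GolayPt → ℤ) (ptV i) = 24 ∧
    dotInt (std32 : GolayPt → ℤ) (ptV i) = 16 := by
  have h := check_pts.2
  simp only [List.all_eq_true, Bool.and_eq_true, beq_iff_eq, decide_eq_true_eq] at h
  have hi : i.val < ptsL.length := by rw [check_pts.1]; exact i.2
  obtain ⟨⟨⟨⟨hl, hL⟩, hn⟩, hu⟩, hv⟩ := h (ptsL.getD i.val [])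
    (by rw [List.getD_eq_getElem _ _ hi]; exact List.getElem_mem hi)
  have e : vecL (ptV i) = ptsL.getD i.val [] := vecL_vecP hl
  have hd : ∀ x y : GolayPt → ℤ, dotL (vecL x) (vecL y) = dotInt x y := fun x y => by
    rw [dotL, vecL, vecL, List.zipWith_map, List.zipWith_self, sum_range_eq]
    simp only [pt_idx]
    rfl
  rw [← e] at hL hn hu hv
  refine ⟨e, (inLB_vecL _).1 hL, ?_, ?_, ?_⟩
  · rw [← dotInt_self, ← hd]; exact hn
  · rw [← hd, vecL_std48]; exact hu
  · rw [← hd, vecL_two.1]; exact hv

/-- The listed point. -/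
def ptP (i : Fin 275) : Pts :=
  ⟨⟨ptV i, (pts_spec i).2.1⟩, (mem_mcConfig_iff sqNorm_std48).2
    ⟨(pts_spec i).2.2.1, (dotInt_comm _ _).trans (pts_spec i).2.2.2.1,
      (dotInt_comm _ _).trans (pts_spec i).2.2.2.2⟩⟩

theorem ptP_injective : Function.Injective ptP := fun i j h => by
  have e : vecL (ptV i) = vecL (ptV j) := congrArg (fun p : Pts => vecL (p.1.1)) h
  rw [(pts_spec i).1, (pts_spec j).1] at e
  have hl : ∀ k : Fin 275, k.val < ptsL.length := fun k => by rw [check_pts.1]; exact k.2
  rw [List.getD_eq_getElem _ _ (hl i), List.getD_eq_getElem _ _ (hl j)] at e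
  exact Fin.ext ((check_nodup.getElem_inj_iff).1 e)

theorem card_pts : Nat.card Pts = 275 :=
  (Nat.card_coe_set_eq _).trans (mcConfig_count codeUnique sqNorm_std48 sqNorm_std32 dot_std)

instance : Finite Pts := Nat.finite_of_card_ne_zero (by rw [card_pts]; norm_num)

noncomputable instance : Fintype Pts := Fintype.ofFinite Pts

theorem ptP_bijective : Function.Bijective ptP :=
  (Nat.bijective_iff_injective_and_card _).2 ⟨ptP_injective, by rw [card_pts, Nat.card_fin]⟩

theorem smul_ptP (g : McLG) (i : Fin 275) {j : Fin 275}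
    (h : mapP (packT (tab g)) (ptsL.getD i.val []) = ptsL.getD j.val []) : g • ptP i = ptP j := by
  refine Subtype.ext (Subtype.ext (vecL_inj ?_))
  show vecL ((emb g • (ptP i).1 : leechLattice) : GolayPt → ℤ) = vecL (ptV j)
  rw [(pts_spec j).1, ← mapP_rows (emb g) (ptP i).1 (show sqNorm (ptV i) ≤ 64 by
    rw [(pts_spec i).2.2.1]; norm_num)]
  show mapP _ (vecL (ptV i)) = _
  rw [(pts_spec i).1]
  exact h

theorem tab_fix_of_smul (g : McLG) (i : Fin 275) (h : g • ptP i = ptP i) :
    mapP (packT (tab g)) (ptsL.getD i.val []) = ptsL.getD i.val [] := by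
  have e := congrArg (fun p : Pts => vecL (p.1.1)) h
  simp only [coe_smul_pts] at e
  rw [← mapP_rows (emb g) (ptP i).1 (show sqNorm (ptV i) ≤ 64 by
    rw [(pts_spec i).2.2.1]; norm_num)] at e
  rw [show ((ptP i).1 : GolayPt → ℤ) = ptV i from rfl, (pts_spec i).1] at e
  exact e

instance : MulAction.IsPretransitive McLG Pts where
  exists_smul_eq x y := by
    obtain ⟨g, h1, h2, h3⟩ :=
      mcConfig_transitive codeUnique sqNorm_std48 sqNorm_std32 dot_std x.2 y.2
    obtain ⟨k, hk⟩ := (OuterMcL.range_iff g).2 ⟨h1, h2⟩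
    exact ⟨k, Subtype.ext (by rw [coe_smul_pts, hk, h3])⟩

end Cfsg.Agent.McLMult91
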