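import Cfsg.Agent.McLMult91.Heis

/-!
Canonical lifts of the extraspecial group and the pairing on their commutators.
-/

set_option autoImplicit false

namespace Cfsg.Agent.McLMult91

open Subgroup
open scoped commutatorElement IsMulCommutative

universe u v

variable {G : Type v} [Group G] {Γ : Type u} [Group Γ]

/-- Lifts inverted by a lift of the involution. -/
structure Lift (σ : Γ →* G) (S : Heis G) where
  T : Γ
  X : Fin 4 → Γ
  hT : σ T = S.t
  hσX : ∀ i, σ (X i) = S.x i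
  hX3 : ∀ i, X i ^ 3 = 1
  hTX : ∀ i, T * X i * T⁻¹ = (X i)⁻¹

variable {σ : Γ →* G} {S : Heis G}

theorem nonempty_lift (hσ : Function.Surjective σ) (hc : σ.ker ≤ center Γ) :
    Nonempty (Lift σ S) := by
  obtain ⟨T, hT⟩ := hσ S.t
  choose U hU using fun i => hσ (S.x i ^ 2)
  have hTT : ∀ g, Commute (T * T) g := fun g =>
    (Subgroup.mem_center_iff.1 (hc (show σ (T * T) = 1 by rw [map_mul, hT, S.ht])) g).symm
  let w : Fin 4 → Γ := fun i => ⁅U i, T⁆
  have hw : ∀ i, σ (w i) = S.x i := fun i => by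
    show σ ⁅U i, T⁆ = _
    have e : S.t * (S.x i ^ 2)⁻¹ * S.t⁻¹ = S.x i ^ 2 := by
      rw [← inv_pow, ← conj_pow, ← inv_inj, ← inv_pow]
      simp [mul_inv_rev, mul_assoc]
      rw [← mul_assoc, S.htx, inv_pow]
    rw [map_commutatorElement, hU, hT, commutatorElement_def, mul_assoc, mul_assoc,
      ← mul_assoc S.t, e, ← pow_add]
    rw [show 2 + 2 = 3 + 1 from rfl, pow_succ, S.hx, one_mul]
  have hwT : ∀ i, T * w i * T⁻¹ = (w i)⁻¹ := fun i => by
    have h2 : (T * T) * U i = U i * (T * T) := (hTT (U i)).eq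
    show T * ⁅U i, T⁆ * T⁻¹ = _
    rw [commutatorElement_inv, commutatorElement_def, commutatorElement_def]
    calc T * (U i * T * (U i)⁻¹ * T⁻¹) * T⁻¹ = T * U i * T * ((T * T) * U i)⁻¹ := by group
      _ = T * U i * T * (U i * (T * T))⁻¹ := by rw [h2]
      _ = _ := by group
  refine ⟨⟨T, fun i => w i ^ 4, hT, fun i => ?_, fun i => ?_, fun i => ?_⟩⟩
  · rw [map_pow, hw, show 4 = 3 + 1 from rfl, pow_succ, S.hx, one_mul]
  · have hz : σ (w i ^ 3) = 1 := by rw [map_pow, hw, S.hx]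
    have hcen := Subgroup.mem_center_iff.1 (hc hz) T
    have h : T * w i ^ 3 * T⁻¹ = (w i ^ 3)⁻¹ := by rw [← conj_pow, hwT, inv_pow]
    rw [hcen, mul_inv_cancel_right] at h
    have h1 : (w i ^ 3) * w i ^ 3 = 1 := eq_inv_iff_mul_eq_one.1 h
    calc (w i ^ 4) ^ 3 = (w i ^ 3 * w i ^ 3) * (w i ^ 3 * w i ^ 3) := by
          simp only [← pow_mul, ← pow_add]
      _ = 1 := by rw [h1, one_mul]
  · rw [← conj_pow, hwT, inv_pow]

variable (L : Lift σ S)

/-- The lifted group. -/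
def Lift.M : Subgroup Γ := Subgroup.closure (Set.range L.X)

/-- The commutators. -/
def Lift.D : Subgroup Γ := Subgroup.closure (Set.range fun p : Fin 4 × Fin 4 => ⁅L.X p.1, L.X p.2⁆)

theorem Lift.X_mem (i : Fin 4) : L.X i ∈ L.M := subset_closure ⟨i, rfl⟩

theorem Lift.D_le : L.D ≤ L.M := by
  rw [Lift.D, closure_le]
  rintro _ ⟨⟨i, j⟩, rfl⟩
  show ⁅L.X i, L.X j⁆ ∈ L.M
  rw [commutatorElement_def]
  exact mul_mem (mul_mem (mul_mem (L.X_mem i) (L.X_mem j)) (inv_mem (L.X_mem i))) (inv_mem (L.X_mem j))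

theorem Lift.map_M : L.M.map σ = Q S := by
  rw [Lift.M, MonoidHom.map_closure, Q, ← Set.range_comp]
  exact congrArg Subgroup.closure (congrArg Set.range (funext L.hσX))

theorem Lift.T_norm : ∀ m ∈ L.M, L.T * m * L.T⁻¹ ∈ L.M := by
  have h : L.M.map (MulAut.conj L.T).toMonoidHom ≤ L.M := by
    rw [Lift.M, MonoidHom.map_closure, closure_le]
    rintro _ ⟨_, ⟨i, rfl⟩, rfl⟩
    show L.T * L.X i * L.T⁻¹ ∈ Subgroup.closure _
    rw [L.hTX]
    exact inv_mem (L.X_mem i)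
  exact fun m hm => h ⟨m, hm, rfl⟩

variable (hc : σ.ker ≤ center Γ)
include hc

theorem Lift.cen {z : Γ} (hz : σ z = 1) (g : Γ) : Commute z g :=
  (Subgroup.mem_center_iff.1 (hc hz) g).symm

/-- Anything above a power of `c` commutes with the lifts. -/
theorem Lift.commute_X {w : Γ} (hw : σ w ∈ zpowers S.c) (i : Fin 4) : Commute (L.X i) w := by
  obtain ⟨n, hn⟩ := hw
  have hn' : S.c ^ n = σ w := hn
  set ζ := ⁅L.X i, w⁆ with hζ
  have hζ1 : σ ζ = 1 := by
    rw [hζ, map_commutatorElement, L.hσX, ← hn', commutatorElement_eq_one_iff_commute]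
    exact (show Commute S.c (S.x i) from S.hcx i).symm.zpow_right n
  have hcc := Lift.cen hc hζ1
  have hconj : L.X i * w * (L.X i)⁻¹ = ζ * w := by rw [hζ, commutatorElement_def]; group
  have hTw : σ (w⁻¹ * (L.T * w * L.T⁻¹)) = 1 := by
    rw [map_mul, map_mul, map_mul, map_inv, map_inv, L.hT, ← hn', ← conj_zpow, S.htc, inv_mul_cancel]
  set z := w⁻¹ * (L.T * w * L.T⁻¹) with hzdef
  have h2 : ζ * ζ = 1 := by
    have e : L.T * ζ * L.T⁻¹ = ζ := by rw [← (hcc L.T).eq, mul_inv_cancel_right]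
    have e' : L.T * ζ * L.T⁻¹ = ⁅(L.X i)⁻¹, w * z⁆ := by
      rw [hζ, hzdef, mul_inv_cancel_left, ← L.hTX i, commutatorElement_def, commutatorElement_def]
      group
    have hzc := Lift.cen hc hTw
    have e'' : ⁅(L.X i)⁻¹, w * z⁆ = ζ⁻¹ := by
      have h3 : (L.X i)⁻¹ * w * L.X i = ζ⁻¹ * w := by
        have h4 : L.X i * (ζ⁻¹ * w) * (L.X i)⁻¹ = w := by
          rw [← mul_assoc, ← ((hcc (L.X i)).inv_left).eq, mul_assoc ζ⁻¹, mul_assoc ζ⁻¹, hconj,
            inv_mul_cancel_left]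
        calc (L.X i)⁻¹ * w * L.X i = (L.X i)⁻¹ * (L.X i * (ζ⁻¹ * w) * (L.X i)⁻¹) * L.X i := by rw [h4]
          _ = _ := by group
      calc ⁅(L.X i)⁻¹, w * z⁆ = (L.X i)⁻¹ * w * (z * L.X i) * z⁻¹ * w⁻¹ := by
            rw [commutatorElement_def]; group
        _ = (L.X i)⁻¹ * w * L.X i * w⁻¹ := by rw [(hzc (L.X i)).eq]; group
        _ = _ := by rw [h3, mul_inv_cancel_right]
    rw [e, e''] at e'
    exact eq_inv_iff_mul_eq_one.1 e'
  have h3 : ζ ^ 3 = 1 := by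
    have := PresMult70.conj_pow_scalar hconj (hcc w) 1
    have h4 : L.X i ^ 3 * w * (L.X i ^ 3)⁻¹ = ζ ^ 3 * w := by
      calc L.X i ^ 3 * w * (L.X i ^ 3)⁻¹
          = L.X i * (L.X i * (L.X i * w * (L.X i)⁻¹) * (L.X i)⁻¹) * (L.X i)⁻¹ := by
            rw [pow_three]; group
        _ = L.X i * (L.X i * ζ * w * (L.X i)⁻¹) * (L.X i)⁻¹ := by rw [hconj]; group
        _ = L.X i * (ζ * (L.X i * w * (L.X i)⁻¹)) * (L.X i)⁻¹ := by
            rw [← (hcc (L.X i)).eq]; group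
        _ = L.X i * (ζ * ζ) * w * (L.X i)⁻¹ := by rw [hconj]; group
        _ = (ζ * ζ) * (L.X i * w * (L.X i)⁻¹) := by
            rw [← ((hcc (L.X i)).mul_left (hcc (L.X i))).eq]; group
        _ = ζ ^ 3 * w := by rw [hconj, pow_three]; group
    rw [L.hX3, one_mul, inv_one, mul_one] at h4
    exact (mul_eq_right.1 h4.symm)
  have : ζ = 1 := by
    calc ζ = (ζ * ζ) * ζ * (ζ ^ 3)⁻¹ * ((ζ * ζ) * 1) := by rw [h2, h3]; simp
      _ = 1 := by rw [h2]; simp [pow_three, h2, mul_assoc]; 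
  exact commutatorElement_eq_one_iff_commute.1 (hζ ▸ this)

theorem Lift.commute_M {w : Γ} (hw : σ w ∈ zpowers S.c) {m : Γ} (hm : m ∈ L.M) : Commute m w := by
  induction hm using closure_induction with
  | mem y hy => obtain ⟨i, rfl⟩ := hy; exact L.commute_X hc hw i
  | one => exact Commute.one_left w
  | mul a b _ _ ha hb => exact ha.mul_left hb
  | inv a _ ha => exact ha.inv_left

theorem Lift.σ_D {d : Γ} (hd : d ∈ L.D) : σ d ∈ zpowers S.c := by
  induction hd using closure_induction with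
  | mem y hy =>
    obtain ⟨⟨i, j⟩, rfl⟩ := hy
    rw [map_commutatorElement, L.hσX, L.hσX, S.hcomm]
    exact pow_mem (mem_zpowers _) _
  | one => rw [map_one]; exact one_mem _
  | mul a b _ _ ha hb => rw [map_mul]; exact mul_mem ha hb
  | inv a _ ha => rw [map_inv]; exact inv_mem ha

theorem Lift.commute_D {d m : Γ} (hd : d ∈ L.D) (hm : m ∈ L.M) : Commute m d :=
  L.commute_M hc (L.σ_D hc hd) hm

theorem Lift.comm_mem_D {a b : Γ} (ha : a ∈ L.M) (hb : b ∈ L.M) : ⁅a, b⁆ ∈ L.D := by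
  have h : ⁅L.M, L.M⁆ ≤ L.D := by
    refine Mult93.commutator_closure_le _ _ ?_ ?_
    · rintro _ ⟨i, rfl⟩ d hd
      have h := L.commute_D hc hd (L.X_mem i)
      exact ⟨by rw [h.eq, mul_inv_cancel_right]; exact hd,
        by rw [h.inv_left.eq, inv_mul_cancel_right]; exact hd⟩
    · rintro _ ⟨i, rfl⟩ _ ⟨j, rfl⟩
      exact subset_closure ⟨(i, j), rfl⟩
  exact h (Subgroup.commutator_mem_commutator ha hb)

/-- Commutation with a fixed element, a homomorphism. -/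
def Lift.pairHom {y : Γ} (hy : y ∈ L.M) : L.M →* L.D where
  toFun a := ⟨⁅(a : Γ), y⁆, L.comm_mem_D hc a.2 hy⟩
  map_one' := Subtype.ext (commutatorElement_one_left y)
  map_mul' a b := Subtype.ext (comm_mul_left (L.commute_D hc (L.comm_mem_D hc b.2 hy) a.2)
    (L.commute_D hc (L.comm_mem_D hc b.2 hy) (L.D_le (L.comm_mem_D hc a.2 hy))))

theorem Lift.isComm_D : IsMulCommutative L.D :=
  ⟨⟨fun a b => Subtype.ext (L.commute_D hc b.2 (L.D_le a.2)).eq⟩⟩

/-- The six commutators. -/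
def Lift.C6 (k : Fin 6) : L.D :=
  ⟨⁅L.X ((![0, 0, 0, 1, 1, 2] : Fin 6 → Fin 4) k), L.X ((![1, 2, 3, 2, 3, 3] : Fin 6 → Fin 4) k)⁆,
    subset_closure ⟨(_, _), rfl⟩⟩

/-- The pairing as a function of exterior squares. -/
def Lift.phi (v : Fin 6 → ℤ) : L.D :=
  L.C6 0 ^ v 0 * L.C6 1 ^ v 1 * L.C6 2 ^ v 2 * L.C6 3 ^ v 3 * L.C6 4 ^ v 4 *
    L.C6 5 ^ v 5

theorem Lift.phi_add (v w : Fin 6 → ℤ) : L.phi (v + w) = L.phi v * L.phi w := by
  haveI := L.isComm_D hc
  simp only [Lift.phi, Pi.add_apply, zpow_add]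
  ac_rfl

theorem Lift.phi_zero : L.phi 0 = 1 := by simp [Lift.phi]

/-- The pairing as an additive homomorphism. -/
def Lift.phiHom : (Fin 6 → ℤ) →+ Additive L.D where
  toFun v := Additive.ofMul (L.phi v)
  map_zero' := by simp [L.phi_zero hc]
  map_add' v w := by simp [L.phi_add hc v w]

theorem Lift.C6_pow (k : Fin 6) : L.C6 k ^ 3 = 1 := by
  set i := (![0, 0, 0, 1, 1, 2] : Fin 6 → Fin 4) k
  set j := (![1, 2, 3, 2, 3, 3] : Fin 6 → Fin 4) k
  have h : L.pairHom hc (L.X_mem j) ⟨L.X i, L.X_mem i⟩ = L.C6 k := rfl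
  rw [← h, ← map_pow]
  have : (⟨L.X i, L.X_mem i⟩ : L.M) ^ 3 = 1 := Subtype.ext (L.hX3 i)
  rw [this, map_one]

theorem Lift.phi_three (w : Fin 6 → ℤ) : L.phi (3 • w) = 1 := by
  simp [Lift.phi, zpow_mul, zpow_ofNat, L.C6_pow hc]

/-- Exterior product. -/
def wedge (e f : Fin 4 → ℤ) : Fin 6 → ℤ := fun k =>
  e ((![0, 0, 0, 1, 1, 2] : Fin 6 → Fin 4) k) * f ((![1, 2, 3, 2, 3, 3] : Fin 6 → Fin 4) k) -
  e ((![1, 2, 3, 2, 3, 3] : Fin 6 → Fin 4) k) * f ((![0, 0, 0, 1, 1, 2] : Fin 6 → Fin 4) k)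

omit hc in
theorem Lift.pw4_mem (e : Fin 4 → ℤ) : pw4 L.X e ∈ L.M :=
  mul_mem (mul_mem (mul_mem (zpow_mem (L.X_mem 0) _) (zpow_mem (L.X_mem 1) _))
    (zpow_mem (L.X_mem 2) _)) (zpow_mem (L.X_mem 3) _)

/-- Bilinearity. -/
theorem Lift.comm_pw4 (e f : Fin 4 → ℤ) :
    ⁅pw4 L.X e, pw4 L.X f⁆ = (L.phi (wedge e f) : Γ) := by
  haveI := L.isComm_D hc
  let X' : Fin 4 → L.M := fun i => ⟨L.X i, L.X_mem i⟩
  let cm : Fin 4 → Fin 4 → L.D := fun i j => ⟨⁅L.X i, L.X j⁆, L.comm_mem_D hc (L.X_mem i) (L.X_mem j)⟩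
  have h1 : ∀ (y : Γ) (hy : y ∈ L.M) (g : Fin 4 → ℤ),
      L.pairHom hc hy ⟨pw4 L.X g, L.pw4_mem g⟩ = L.pairHom hc hy (X' 0) ^ g 0 *
        L.pairHom hc hy (X' 1) ^ g 1 * L.pairHom hc hy (X' 2) ^ g 2 * L.pairHom hc hy (X' 3) ^ g 3 := by
    intro y hy g
    rw [show (⟨pw4 L.X g, L.pw4_mem g⟩ : L.M) = X' 0 ^ g 0 * X' 1 ^ g 1 * X' 2 ^ g 2 * X' 3 ^ g 3
      from Subtype.ext (by simp [pw4, X'])]
    simp only [map_mul, map_zpow]
  have h2 : ∀ i, L.pairHom hc (L.pw4_mem f) (X' i) =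
      cm i 0 ^ f 0 * cm i 1 ^ f 1 * cm i 2 ^ f 2 * cm i 3 ^ f 3 := by
    intro i
    have e1 : L.pairHom hc (L.pw4_mem f) (X' i) = (L.pairHom hc (L.X_mem i) ⟨_, L.pw4_mem f⟩)⁻¹ :=
      Subtype.ext (commutatorElement_inv _ _).symm
    have e2 : ∀ j, L.pairHom hc (L.X_mem i) (X' j) = (cm i j)⁻¹ := fun j =>
      Subtype.ext (commutatorElement_inv _ _).symm
    rw [e1, h1]
    simp only [e2, mul_inv, inv_zpow, inv_inv]
  have hd : ∀ i, cm i i = 1 := fun i => Subtype.ext (commutatorElement_self _)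
  have hs : ∀ i j, cm j i = (cm i j)⁻¹ := fun i j => Subtype.ext (commutatorElement_inv _ _).symm
  have main : (L.pairHom hc (L.pw4_mem f) ⟨_, L.pw4_mem e⟩) = L.phi (wedge e f) := by
    rw [h1, h2, h2, h2, h2]
    simp only [mul_zpow, ← zpow_mul, hd, one_zpow, one_mul, mul_one, Lift.phi, wedge, zpow_sub]
    rw [hs 0 1, hs 0 2, hs 0 3, hs 1 2, hs 1 3, hs 2 3]
    simp only [inv_zpow, ← zpow_neg]
    have c0 : L.C6 0 = cm 0 1 := rfl
    have c1 : L.C6 1 = cm 0 2 := rfl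
    have c2 : L.C6 2 = cm 0 3 := rfl
    have c3 : L.C6 3 = cm 1 2 := rfl
    have c4 : L.C6 4 = cm 1 3 := rfl
    have c5 : L.C6 5 = cm 2 3 := rfl
    simp only [c0, c1, c2, c3, c4, c5, Matrix.cons_val, zpow_neg]
    simp only [mul_comm (f _) (e _)]
    ac_rfl
  exact congrArg Subtype.val main

/-- The relations from a normalising element fixing `c`. -/
theorem Lift.rel (hσ : Function.Surjective σ) {g : G} {m : ℕ} (hm : g ^ m = 1) (hm3 : m.Coprime 3)
    (hgc : g * S.c * g⁻¹ = S.c) (row : Fin 4 → Fin 4 → ℤ) (k : Fin 4 → ℤ)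
    (hg : ∀ i, g * S.x i * g⁻¹ = pw4 S.x (row i) * S.c ^ k i) (n : Fin 6) :
    L.phi (wedge (row ((![0, 0, 0, 1, 1, 2] : Fin 6 → Fin 4) n))
      (row ((![1, 2, 3, 2, 3, 3] : Fin 6 → Fin 4) n)) - Pi.single n 1) = 1 := by
  set i := (![0, 0, 0, 1, 1, 2] : Fin 6 → Fin 4) n
  set j := (![1, 2, 3, 2, 3, 3] : Fin 6 → Fin 4) n
  obtain ⟨A, hA⟩ := hσ g
  set d : Γ := ((L.C6 n : L.D) : Γ)
  -- the lift fixes the commutator
  have hζ1 : σ ⁅A, d⁆ = 1 := by
    obtain ⟨r, hr⟩ := L.σ_D hc (L.C6 n).2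
    rw [map_commutatorElement, hA, commutatorElement_eq_one_iff_commute, ← hr]
    exact Commute.zpow_right (show g * S.c = S.c * g from mul_inv_eq_iff_eq_mul.1 hgc) r
  set ζ := ⁅A, d⁆ with hζ
  have hcc := Lift.cen hc hζ1
  have hconj : A * d * A⁻¹ = ζ * d := by rw [hζ, commutatorElement_def]; group
  have hpow : ∀ q : ℕ, A ^ q * d * (A ^ q)⁻¹ = ζ ^ q * d := by
    intro q
    induction q with
    | zero => simp
    | succ q ih =>
      calc A ^ (q + 1) * d * (A ^ (q + 1))⁻¹ = A * (A ^ q * d * (A ^ q)⁻¹) * A⁻¹ := by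
            rw [pow_succ']; group
        _ = A * ζ ^ q * d * A⁻¹ := by rw [ih]; group
        _ = ζ ^ q * (A * d * A⁻¹) := by rw [← ((hcc A).pow_left q).eq]; group
        _ = _ := by rw [hconj, pow_succ]; group
  have hζm : ζ ^ m = 1 := by
    have h := hpow m
    rw [← (Lift.cen hc (show σ (A ^ m) = 1 by rw [map_pow, hA, hm]) d).symm.eq,
      mul_inv_cancel_right] at h
    exact mul_eq_right.1 h.symm
  have hζ3 : ζ ^ 3 = 1 := by
    have h := PresMult70.conj_pow_scalar hconj (hcc d) 3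
    rw [show d ^ 3 = 1 from congrArg Subtype.val (L.C6_pow hc n), mul_one, mul_inv_cancel, mul_one] at h
    exact h.symm
  have hζone : ζ = 1 := by
    have := pow_gcd_eq_one.2 ⟨hζm, hζ3⟩
    rwa [hm3.gcd_eq_one, pow_one] at this
  rw [hζone, one_mul] at hconj
  -- the images of the lifts
  have himg : ∀ l, ∃ z : Γ, σ z ∈ zpowers S.c ∧ A * L.X l * A⁻¹ = pw4 L.X (row l) * z := fun l => by
    refine ⟨(pw4 L.X (row l))⁻¹ * (A * L.X l * A⁻¹), ?_, (mul_inv_cancel_left _ _).symm⟩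
    have : σ (pw4 L.X (row l)) = pw4 S.x (row l) := by simp [pw4, L.hσX]
    rw [map_mul, map_mul, map_mul, map_inv, map_inv, this, hA, L.hσX, hg, inv_mul_cancel_left]
    exact zpow_mem (mem_zpowers _) _
  obtain ⟨z, hz, ez⟩ := himg i
  obtain ⟨z', hz', ez'⟩ := himg j
  have hdz : d = ⁅pw4 L.X (row i), pw4 L.X (row j)⁆ := by
    have e : A * d * A⁻¹ = ⁅A * L.X i * A⁻¹, A * L.X j * A⁻¹⁆ := by
      show A * ⁅L.X i, L.X j⁆ * A⁻¹ = _
      rw [commutatorElement_def, commutatorElement_def]; group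
    have h1 := L.commute_M hc hz' (L.pw4_mem (row i))
    have hyz : Commute z (pw4 L.X (row j)) := (L.commute_M hc hz (L.pw4_mem _)).symm
    have hA2 : A * L.X j * A⁻¹ = pw4 L.X (row j) * z' := ez'
    have hzz : Commute z z' := by
      have hzM : ∃ m ∈ L.M, σ m = σ z := by
        obtain ⟨r, hr⟩ := hz
        refine ⟨((L.C6 0 : L.D) : Γ) ^ r, zpow_mem (L.D_le (L.C6 0).2) _, ?_⟩
        rw [map_zpow]
        show σ ⁅L.X 0, L.X 1⁆ ^ r = _
        rw [map_commutatorElement, L.hσX, L.hσX, S.hcomm, show form 0 1 = 1 from rfl, pow_one]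
        exact hr
      obtain ⟨m0, hm0, hm0'⟩ := hzM
      have hz0 : σ (m0⁻¹ * z) = 1 := by rw [map_mul, map_inv, hm0', inv_mul_cancel]
      have := (L.commute_M hc hz' hm0).mul_left (Lift.cen hc hz0 z')
      rwa [mul_inv_cancel_left] at this
    rw [hconj, ez, hA2] at e
    rw [e, commutatorElement_def, commutatorElement_def]
    set a := pw4 L.X (row i)
    set b := pw4 L.X (row j)
    calc a * z * (b * z') * (a * z)⁻¹ * (b * z')⁻¹ = a * (z * b) * z' * z⁻¹ * a⁻¹ * z'⁻¹ * b⁻¹ := by group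
      _ = a * b * (z * z') * z⁻¹ * a⁻¹ * z'⁻¹ * b⁻¹ := by rw [hyz.eq]; group
      _ = a * b * (z' * a⁻¹) * z'⁻¹ * b⁻¹ := by rw [hzz.eq]; group
      _ = a * b * a⁻¹ * b⁻¹ := by rw [← h1.inv_left.eq]; group
  haveI := L.isComm_D hc
  have hd2 : L.phi (wedge (row i) (row j)) = L.C6 n :=
    Subtype.ext ((L.comm_pw4 hc _ _).symm.trans hdz.symm)
  have hs : L.phi (Pi.single n 1) = L.C6 n := by
    simp only [Lift.phi]
    fin_cases n <;> simp
  have h := L.phi_add hc (wedge (row i) (row j) - Pi.single n 1) (Pi.single n 1)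
  rw [sub_add_cancel, hd2, hs] at h
  exact mul_eq_right.1 h.symm

omit hc in
theorem Lift.C6_gen (d : L.D) :
    (d : Γ) ∈ closure (Set.range fun p : Fin 4 × Fin 4 => ⁅L.X p.1, L.X p.2⁆) := d.2

theorem Lift.phi_surjective : Function.Surjective (L.phi) := by
  intro d
  haveI := L.isComm_D hc
  let R : AddSubgroup (Additive L.D) := (L.phiHom hc).range
  suffices ∀ d : Γ, ∀ hd : d ∈ L.D, Additive.ofMul (⟨d, hd⟩ : L.D) ∈ R from this d.1 d.2
  intro d hd
  induction hd using closure_induction with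
  | mem y hy =>
    obtain ⟨⟨i, j⟩, rfl⟩ := hy
    refine ⟨wedge (Pi.single i 1) (Pi.single j 1), congrArg Additive.ofMul (Subtype.ext ?_)⟩
    rw [← L.comm_pw4 hc]
    congr 1 <;> (simp only [pw4]; first | (fin_cases i <;> fin_cases j <;> simp))
  | one => exact R.zero_mem
  | mul a b ha hb iha ihb => exact R.add_mem iha ihb
  | inv a ha iha => exact R.neg_mem iha

/-- Spanning certificate: the pairing group is the image of the coordinates on `b`. -/
theorem Lift.surjective_of_span {r n : ℕ} (R : Fin r → Fin 6 → ℤ) (hR : ∀ l, L.phi (R l) = 1)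
    (b : Fin n → Fin 6 → ℤ) (lam : Fin 6 → Fin r → ℤ) (mu : Fin 6 → Fin n → ℤ)
    (w : Fin 6 → Fin 6 → ℤ)
    (h : ∀ k, Pi.single k 1 = ∑ l, lam k l • R l + ∑ l, mu k l • b l + 3 • w k) :
    Function.Surjective fun μ : Fin n → Fin 3 => L.phi (∑ l, ((μ l).val : ℤ) • b l) := by
  haveI := L.isComm_D hc
  intro d
  obtain ⟨v, rfl⟩ := L.phi_surjective hc d
  let ν : Fin n → ℤ := fun l => ∑ k, v k * mu k l
  let rr : Fin n → Fin 3 := fun l => ⟨(ν l % 3).toNat, by omega⟩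
  refine ⟨rr, Additive.ofMul.injective ?_⟩
  show L.phiHom hc _ = L.phiHom hc v
  have hR' : ∀ l, L.phiHom hc (R l) = 0 := fun l => congrArg Additive.ofMul (hR l)
  have h3 : ∀ u : Fin 6 → ℤ, L.phiHom hc (3 • u) = 0 := fun u =>
    congrArg Additive.ofMul (L.phi_three hc u)
  have h3' : ∀ (q : ℤ) (u : Fin 6 → ℤ), L.phiHom hc ((3 * q) • u) = 0 := fun q u => by
    rw [mul_smul, show (3 : ℤ) • (q • u) = 3 • (q • u) from natCast_zsmul _ _]; exact h3 _
  have hv : v = ∑ k, v k • (Pi.single k 1 : Fin 6 → ℤ) := by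
    funext i; simp [Pi.single_apply]
  conv_rhs => rw [hv]
  simp only [h, map_sum, map_add, map_zsmul, hR', h3, smul_zero, Finset.sum_const_zero, zero_add,
    add_zero, Finset.smul_sum, smul_smul]
  rw [Finset.sum_comm]
  refine Finset.sum_congr rfl fun l _ => ?_
  rw [← Finset.sum_smul]
  show (((rr l).val : ℤ)) • _ = ν l • _
  have e : ν l = ((rr l).val : ℤ) + 3 * (ν l / 3) := by
    show ν l = ((ν l % 3).toNat : ℤ) + _
    omega
  rw [e, add_smul, ← map_zsmul (L.phiHom hc) (3 * (ν l / 3)), h3', add_zero]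

theorem Lift.card_ker_le [Finite Γ] [Finite G] :
    Nat.card (σ.ker ⊓ L.M : Subgroup Γ) * 3 ≤ Nat.card L.D := by
  let K : ℕ → Subgroup Γ := fun n => L.D ⊔ closure {y | ∃ i : Fin 4, i.val < n ∧ L.X i = y}
  have hKM : ∀ n, K n ≤ L.M := fun n => sup_le L.D_le (((Subgroup.closure_le _).2) (by
    rintro _ ⟨i, -, rfl⟩; exact L.X_mem i))
  have hnorm : ∀ n, ∀ i : Fin 4, ∀ k ∈ K n, L.X i * k * (L.X i)⁻¹ ∈ K n := by
    intro n i k hk
    rw [show L.X i * k * (L.X i)⁻¹ = ⁅L.X i, k⁆ * k by rw [commutatorElement_def]; group]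
    exact mul_mem (Subgroup.mem_sup_left (L.comm_mem_D hc (L.X_mem i) (hKM n hk))) hk
  have hcard : ∀ n ≤ 4, Nat.card (K n) ≤ Nat.card L.D * 3 ^ n := by
    intro n
    induction n with
    | zero => intro _; rw [show K 0 = L.D by simp [K]]; simp
    | succ n ih =>
      intro hn
      have hle : K (n + 1) ≤ K n ⊔ zpowers (L.X ⟨n, by omega⟩) := by
        refine sup_le (le_sup_left.trans le_sup_left) (((Subgroup.closure_le _).2) ?_)
        rintro _ ⟨j, hj, rfl⟩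
        rcases Nat.lt_succ_iff_lt_or_eq.1 hj with h | h
        · exact Subgroup.mem_sup_left (Subgroup.mem_sup_right (subset_closure ⟨j, h, rfl⟩))
        · rw [show (⟨n, by omega⟩ : Fin 4) = j from Fin.ext h.symm]
          exact Subgroup.mem_sup_right (mem_zpowers _)
      calc Nat.card (K (n + 1)) ≤ Nat.card (K n ⊔ zpowers (L.X ⟨n, by omega⟩) : Subgroup Γ) :=
            Subgroup.card_le_of_le hle
        _ ≤ Nat.card (K n) * 3 := card_sup_zpowers_le _ _ (hnorm n _) (L.hX3 _)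
        _ ≤ _ := by rw [pow_succ, ← mul_assoc]; exact Nat.mul_le_mul_right _ (ih (by omega))
  have hle : L.M ≤ K 4 := by
    rw [Lift.M, Subgroup.closure_le]
    rintro _ ⟨i, rfl⟩
    exact Subgroup.mem_sup_right (subset_closure ⟨i, i.2, rfl⟩)
  have hM : Nat.card L.M ≤ Nat.card L.D * 81 :=
    (Subgroup.card_le_of_le hle).trans ((hcard 4 le_rfl).trans (by norm_num))
  let f := σ.comp L.M.subtype
  have hr : f.range = Q S := by
    rw [MonoidHom.range_comp, Subgroup.range_subtype]; exact L.map_M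
  have hk : Nat.card f.ker = Nat.card (σ.ker ⊓ L.M : Subgroup Γ) := by
    refine Nat.card_congr
      { toFun := fun z => ⟨z.1.1, z.2, z.1.2⟩
        invFun := fun z => ⟨⟨z.1, z.2.2⟩, z.2.1⟩
        left_inv := fun _ => rfl
        right_inv := fun _ => rfl }
  have hmul : Nat.card f.ker * 243 = Nat.card L.M := by
    rw [← f.ker.card_mul_index, Subgroup.index_ker, hr, card_Q]
  omega

/-- The kernel inside the commutator of a Sylow preimage lies among the lifts. -/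
theorem Lift.commutator_le (hσ : Function.Surjective σ) [Finite G] {r : G}
    (hrt : r * S.t * r⁻¹ = S.t) (hrQ : ∀ i, r * S.x i * r⁻¹ ∈ Q S ∧ r⁻¹ * S.x i * r ∈ Q S) :
    ⁅(closure (Set.range S.x ∪ {r})).comap σ, (closure (Set.range S.x ∪ {r})).comap σ⁆ ≤ L.M := by
  obtain ⟨R, hR⟩ := hσ r
  have norm1 : ∀ (A : Γ) (a : G), σ A = a → a * S.t * a⁻¹ = S.t →
      (∀ i, a * S.x i * a⁻¹ ∈ Q S) → ∀ m ∈ L.M, A * m * A⁻¹ ∈ L.M := by
    intro A a hA hat haQ
    have h : L.M.map (MulAut.conj A).toMonoidHom ≤ L.M := by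
      rw [Lift.M, MonoidHom.map_closure, closure_le]
      rintro _ ⟨_, ⟨i, rfl⟩, rfl⟩
      show A * L.X i * A⁻¹ ∈ L.M
      obtain ⟨m, hm, hm'⟩ := (L.map_M ▸ haQ i : a * S.x i * a⁻¹ ∈ L.M.map σ)
      have hz : σ (m⁻¹ * (A * L.X i * A⁻¹)) = 1 := by
        simp only [map_mul, map_inv, hA, L.hσX, hm', inv_mul_cancel]
      have hz' : σ (L.T⁻¹ * (A * L.T * A⁻¹)) = 1 := by
        simp only [map_mul, map_inv, hA, L.hT, hat, inv_mul_cancel]
      have e : L.X i = ⁅L.X i, L.T⁆ ^ 2 := by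
        have : ⁅L.X i, L.T⁆ = L.X i * L.X i := by
          rw [commutatorElement_def, mul_assoc, mul_assoc, ← mul_assoc L.T]
          congr 1
          rw [show L.T * (L.X i)⁻¹ * L.T⁻¹ = (L.T * L.X i * L.T⁻¹)⁻¹ by group, L.hTX, inv_inv]
        rw [this, ← pow_two, ← pow_mul, show 2 * 2 = 3 + 1 from rfl, pow_succ, L.hX3, one_mul]
      have e' : A * L.X i * A⁻¹ = ⁅A * L.X i * A⁻¹, A * L.T * A⁻¹⁆ ^ 2 := by
        conv_lhs => rw [e]
        rw [← conj_pow]
        congr 1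
        simp only [commutatorElement_def]; group
      have e'' : ⁅A * L.X i * A⁻¹, A * L.T * A⁻¹⁆ = ⁅m, L.T⁆ := by
        conv_lhs => rw [← mul_inv_cancel_left m (A * L.X i * A⁻¹),
          ← mul_inv_cancel_left L.T (A * L.T * A⁻¹)]
        exact Cfsg.Agent.Schur.commutatorElement_mul_central (hc hz) (hc hz') m L.T
      rw [e', e'']
      refine pow_mem ?_ 2
      rw [commutatorElement_def, mul_assoc, mul_assoc, ← mul_assoc L.T]
      exact mul_mem hm (L.T_norm _ (inv_mem hm))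
    exact fun m hm => h ⟨m, hm, rfl⟩
  rw [show Set.range S.x ∪ {r} = σ '' (Set.range L.X ∪ {R}) by
    rw [Set.image_union, ← Set.range_comp, Set.image_singleton, hR]
    exact congrArg (fun f => Set.range f ∪ {r}) (funext L.hσX).symm]
  have hRn : ∀ m ∈ L.M, R * m * R⁻¹ ∈ L.M ∧ R⁻¹ * m * R ∈ L.M := fun m hm =>
    ⟨norm1 R r hR hrt (fun i => (hrQ i).1) m hm, by
      simpa using norm1 R⁻¹ r⁻¹ (by rw [map_inv, hR])
        (by
          rw [inv_inv]
          calc r⁻¹ * S.t * r = r⁻¹ * (r * S.t * r⁻¹) * r := by rw [hrt]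
            _ = S.t := by group)
        (fun i => by simpa using (hrQ i).2) m hm⟩
  refine Mult93.commutator_comap_le σ hc _ _ ?_ ?_
  · rintro g (⟨i, rfl⟩ | rfl) m hm
    · exact ⟨mul_mem (mul_mem (L.X_mem i) hm) (inv_mem (L.X_mem i)),
        mul_mem (mul_mem (inv_mem (L.X_mem i)) hm) (L.X_mem i)⟩
    · exact hRn m hm
  · rintro a (⟨i, rfl⟩ | rfl) b (⟨j, rfl⟩ | rfl)
    · exact L.D_le (L.comm_mem_D hc (L.X_mem i) (L.X_mem j))
    · rw [commutatorElement_def, mul_assoc, mul_assoc, ← mul_assoc b]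
      exact mul_mem (L.X_mem i) (hRn _ (inv_mem (L.X_mem i))).1
    · rw [commutatorElement_def]
      exact mul_mem (hRn _ (L.X_mem j)).1 (inv_mem (L.X_mem j))
    · rw [commutatorElement_self]; exact one_mem _

end Cfsg.Agent.McLMult91
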