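import Cfsg.Agent.McLMult91.Cover

/-!
The Schur multiplier of the McLaughlin group, from the structure of the point stabiliser.
-/

set_option autoImplicit false

namespace Cfsg.Agent.McLMult91

open Cfsg Cfsg.Agent.Leech Cfsg.Agent.SporStruct Cfsg.Agent.SporStruct.CoMatrix
open MulAction

/-- The point stabiliser inside `Co0`. -/
noncomputable abbrev HCo : Subgroup Co0 :=
  stabilizer Co0 std48 ⊓ stabilizer Co0 std32 ⊓ stabilizer Co0 (ptP iz).1

theorem nonempty_HG_equiv : Nonempty (HG ≃* HCo) := by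
  have hmem : ∀ g : HG, OuterMcL.emb g.1 ∈ HCo := fun g => by
    obtain ⟨h1, h2⟩ := (OuterMcL.range_iff _).1 ⟨g.1, rfl⟩
    exact ⟨⟨h1, h2⟩, congrArg Subtype.val (show g.1 • ptP iz = ptP iz from g.2)⟩
  let f : HG →* HCo := (OuterMcL.emb.comp HG.subtype).codRestrict HCo hmem
  refine ⟨MulEquiv.ofBijective f ⟨fun a b h => Subtype.ext (OuterMcL.emb_injective
    (congrArg Subtype.val h)), fun y => ?_⟩⟩
  obtain ⟨⟨h1, h2⟩, h3⟩ := y.2
  obtain ⟨g, hg⟩ := (OuterMcL.range_iff y.1).2 ⟨h1, h2⟩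
  exact ⟨⟨g, show g • ptP iz = ptP iz from Subtype.ext (by rw [coe_smul_pts, hg]; exact h3)⟩,
    Subtype.ext hg⟩

theorem std_hyps : sqNorm (std32 : GolayPt → ℤ) = 32 ∧
    sqNorm ((std48 - std32) : GolayPt → ℤ) = 32 :=
  ⟨sqNorm_std32, (dot_of_sub sqNorm_std48 sqNorm_std32).2 dot_std⟩

/-- The multiplier is cyclic of order three once the point stabiliser is known. -/
theorem of_stabilizer (h : ∀ (u v x : leechLattice), sqNorm (u : GolayPt → ℤ) = 48 →
    (sqNorm (v : GolayPt → ℤ) = 32 ∧ sqNorm ((u - v) : GolayPt → ℤ) = 32) →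
    x ∈ {x : leechLattice | sqNorm (x : GolayPt → ℤ) = 32 ∧
      sqNorm ((u - x) : GolayPt → ℤ) = 32 ∧
      dotInt (v : GolayPt → ℤ) (x : GolayPt → ℤ) = 16} →
    ∀ (F : Type) [Field F] [Fintype F], Fintype.card F = 9 →
      Nonempty (↥(stabilizer Co0 u ⊓ stabilizer Co0 v ⊓ stabilizer Co0 x) ≃* Cfsg.PSU 4 F 3)) :
    Cfsg.HasCyclicSchurMultiplier McLG 3 := by
  refine hasCyclicSchurMultiplier_McL fun F _ _ hF => ?_
  obtain ⟨e⟩ := h std48 std32 (ptP iz).1 sqNorm_std48 std_hyps (ptP iz).2 F hF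
  obtain ⟨e'⟩ := nonempty_HG_equiv
  exact ⟨e'.trans e⟩

end Cfsg.Agent.McLMult91
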