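import Cfsg.Agent.McLMult91.Data
import Cfsg.Agent.SporStruct.CoPacked

/-!
The element tables for the Schur multiplier of the McLaughlin group, in four groups.
-/

set_option autoImplicit false

namespace Cfsg.Agent.McLMult91.Check

open Data

/-- A group of element tables. -/
def all1 : List (List (List ℤ)) := [tC, tT, tX0, tX1, tX2]

/-- A group of element tables. -/
def all2 : List (List (List ℤ)) := [tX3, tR, tD, tA, tB]

/-- A group of element tables. -/
def all3 : List (List (List ℤ)) := [tU, tV, tW, tH, t7]

/-- A group of element tables. -/
def all4 : List (List (List ℤ)) := [t11, tRep0, tRep1, tRep2, tRep3, tRep4]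

end Cfsg.Agent.McLMult91.Check
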